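import Groth.Prelude.Def_CInt
import Mathlib.AlgebraicGeometry.Morphisms.SchemeTheoreticallyDominant
import Mathlib.AlgebraicGeometry.Morphisms.Separated
import Mathlib.AlgebraicGeometry.Restrict

/-!
Maps to separated schemes agreeing on schematically dense opens.
-/

set_option autoImplicit false

universe u

open CategoryTheory CategoryTheory.Limits AlgebraicGeometry

namespace Groth.Agent.GrpSch58

variable {X Y Z T : Scheme.{u}}

theorem isSchemeTheoreticallyDominant_of_schDense (U : Y.Opens) (hU : CInt.IsSchematicallyDense U) :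
    IsSchemeTheoreticallyDominant U.ι := by
  rw [isSchemeTheoreticallyDominant_iff, ← le_bot_iff, Scheme.IdealSheafData.le_def]
  intro V x hx
  have h0 : U.ι.app V.1 x = 0 := RingHom.mem_ker.1 ((U.ι.ideal_ker_le V) hx)
  have hle : V.1 ⊓ U ≤ V.1 := inf_le_left
  have : Y.presheaf.map (homOfLE hle).op x = 0 := by
    have he : U.ι ''ᵁ (U.ι ⁻¹ᵁ V.1) = V.1 ⊓ U := by
      rw [Scheme.Hom.image_preimage_eq_opensRange_inf, Scheme.Opens.opensRange_ι, inf_comm]
    rw [Scheme.Opens.ι_app] at h0
    have h1 := (congrArg (Y.presheaf.map (eqToHom he.symm).op) h0).trans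
      (map_zero (Y.presheaf.map (eqToHom he.symm).op).hom)
    erw [← ConcreteCategory.comp_apply, ← Functor.map_comp] at h1
    exact h1
  exact (hU V.1) (this.trans (map_zero _).symm)

theorem eq_of_ι_comp_eq (U : Y.Opens) (hU : CInt.IsSchematicallyDense U)
    (z : Z ⟶ T) [IsSeparated z] (v₁ v₂ : Y ⟶ Z) (hz : v₁ ≫ z = v₂ ≫ z) (h : U.ι ≫ v₁ = U.ι ≫ v₂) :
    v₁ = v₂ := by
  let k := pullback.fst (pullback.lift v₁ v₂ hz) (pullback.diagonal z)
  let j : (U : Scheme) ⟶ pullback (pullback.lift v₁ v₂ hz) (pullback.diagonal z) :=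
    pullback.lift U.ι (U.ι ≫ v₁) (pullback.hom_ext (by erw [Category.assoc, Category.assoc, pullback.lift_fst, pullback.diagonal_fst, Category.comp_id]) (by erw [Category.assoc, Category.assoc, pullback.lift_snd, pullback.diagonal_snd, Category.comp_id]; exact h.symm))
  have hj : j ≫ k = U.ι := pullback.lift_fst _ _ _
  have : IsClosedImmersion k := inferInstance
  have hk : k.ker = ⊥ := by
    have := (isSchemeTheoreticallyDominant_of_schDense U hU).ker_eq_bot
    rw [← hj] at this
    exact le_bot_iff.1 ((Scheme.Hom.le_ker_comp j k).trans this.le)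
  have : IsIso k := by
    exact IsClosedImmersion.isIso_of_ker_eq k (𝟙 Y) k (Category.comp_id k) (by rw [hk, Scheme.Hom.ker_eq_bot])
  have hc : k ≫ pullback.lift v₁ v₂ hz = pullback.snd _ _ ≫ pullback.diagonal z := pullback.condition
  have h₁ := congrArg (· ≫ pullback.fst z z) hc
  have h₂ := congrArg (· ≫ pullback.snd z z) hc
  simp only [Category.assoc, pullback.lift_fst, pullback.lift_snd, pullback.diagonal_fst, pullback.diagonal_snd,
    Category.comp_id] at h₁ h₂
  rw [← cancel_epi k, h₁, h₂]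

theorem eq_of_comp_eq (f : X ⟶ Y) (U : Y.Opens) (hU : CInt.IsSchematicallyDense U) [IsIso (f ∣_ U)]
    (z : Z ⟶ T) [IsSeparated z] (v₁ v₂ : Y ⟶ Z) (hz : v₁ ≫ z = v₂ ≫ z) (h : f ≫ v₁ = f ≫ v₂) :
    v₁ = v₂ := by
  refine eq_of_ι_comp_eq U hU z v₁ v₂ hz ?_
  rw [← cancel_epi (f ∣_ U)]
  simp only [← Category.assoc, morphismRestrict_ι]
  simp [h]

end Groth.Agent.GrpSch58
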