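import Groth.Agent.S16917
import Groth.Agent.Grp57.Irreducible
import Mathlib.AlgebraicGeometry.Morphisms.Proper
import Mathlib.AlgebraicGeometry.AlgClosed.Basic

/-!
Countable unions of closed subsets which are groups on points.
-/

set_option autoImplicit false
universe u
open CategoryTheory CategoryTheory.Limits MonoidalCategory CartesianMonoidalCategory MonObj GrpObj AlgebraicGeometry TopologicalSpace

namespace Groth.Agent.GrpSch58

variable {k : Type u} [Field k] [IsAlgClosed k] {A : Over (Spec (CommRingCat.of k))} [GrpObj A]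

/-- The point underlying a rational point. -/
noncomputable def ptOf (x : 𝟙_ (Over (Spec (CommRingCat.of k))) ⟶ A) : A.left :=
  x.left (IsLocalRing.closedPoint k)

theorem range_subset_iff (x : 𝟙_ (Over (Spec (CommRingCat.of k))) ⟶ A) (T : Set A.left) :
    Set.range ⇑x.left.base ⊆ T ↔ ptOf x ∈ T := by
  refine ⟨fun h => h ⟨_, rfl⟩, ?_⟩
  rintro h _ ⟨z, rfl⟩
  rwa [show x.left.base z = ptOf x from congrArg x.left (Subsingleton.elim (α := PrimeSpectrum k) _ _)]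

variable [IsProper A.hom]

theorem exists_point {z : A.left} (hz : IsClosed ({z} : Set A.left)) :
    ∃ x : 𝟙_ (Over (Spec (CommRingCat.of k))) ⟶ A, ptOf x = z :=
  ⟨Over.homMk (pointOfClosedPoint A.hom z hz) (pointOfClosedPoint_comp A.hom z hz),
    pointOfClosedPoint_apply A.hom z hz _⟩

theorem isClosed_ptOf (x : 𝟙_ (Over (Spec (CommRingCat.of k))) ⟶ A) : IsClosed ({ptOf x} : Set A.left) :=
  ((pointEquivClosedPoint A.hom) ⟨x.left, Over.w x⟩).2

theorem ptOf_injective {x y : 𝟙_ (Over (Spec (CommRingCat.of k))) ⟶ A} (h : ptOf x = ptOf y) : x = y := by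
  have := (pointEquivClosedPoint A.hom).injective (a₁ := ⟨x.left, Over.w x⟩) (a₂ := ⟨y.left, Over.w y⟩)
    (Subtype.ext h)
  exact Over.OverMorphism.ext (congrArg Subtype.val this)

variable [Uncountable k] (K : Subgroup (𝟙_ (Over (Spec (CommRingCat.of k))) ⟶ A)) (Z : ℕ → Closeds A.left)

/-- Irreducible closed subsets all of whose rational points lie in `K`. -/
def Admissible (T : Closeds A.left) : Prop :=
  IsIrreducible (T : Set A.left) ∧
    ∀ x : 𝟙_ (Over (Spec (CommRingCat.of k))) ⟶ A, Set.range ⇑x.left.base ⊆ (T : Set A.left) → x ∈ K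

variable {K Z} (hK : ∀ x, x ∈ K ↔ Set.range ⇑x.left.base ⊆ ⋃ n, (Z n : Set A.left))

include hK in
theorem Admissible.exists_subset {T : Closeds A.left} (h : Admissible K T) : ∃ n, T ≤ Z n := by
  obtain ⟨_, ⟨n, rfl⟩, hn⟩ := S16917.exists_le_of_closedPoints_subset k A.hom T h.1 (Set.range Z) (Set.countable_range Z)
    fun z hz hzc => by
      obtain ⟨x, rfl⟩ := exists_point hzc
      obtain ⟨n, hn⟩ := Set.mem_iUnion.1 ((range_subset_iff x _).1 ((hK x).1 (h.2 x ((range_subset_iff x _).2 hz))))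
      exact ⟨Z n, ⟨n, rfl⟩, hn⟩
  exact ⟨n, hn⟩

/-- The image of two admissible subsets under a word is admissible. -/
theorem admissible_image (φ : A ⊗ A ⟶ A)
    (hφ : ∀ σ : 𝟙_ (Over (Spec (CommRingCat.of k))) ⟶ A ⊗ A, σ ≫ fst A A ∈ K → σ ≫ snd A A ∈ K → σ ≫ φ ∈ K)
    {T₁ T₂ : Closeds A.left} (h₁ : Admissible K T₁) (h₂ : Admissible K T₂) :
    ∃ T : Closeds A.left, (T : Set A.left) = φ.left '' ((fst A A).left ⁻¹' (T₁ : Set A.left) ∩ (snd A A).left ⁻¹' T₂) ∧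
      Admissible K T := by
  have hAA : IsProper (A ⊗ A).hom := by
    have : IsProper (pullback.fst A.hom A.hom) := inferInstance
    show IsProper (pullback.fst A.hom A.hom ≫ A.hom)
    infer_instance
  have : IsProper φ.left := by
    have : IsProper (φ.left ≫ A.hom) := by rw [Over.w]; infer_instance
    exact IsProper.of_comp φ.left A.hom
  have hS : IsClosed ((fst A A).left ⁻¹' (T₁ : Set A.left) ∩ (snd A A).left ⁻¹' T₂) :=
    (T₁.isClosed.preimage (fst A A).left.continuous).inter (T₂.isClosed.preimage (snd A A).left.continuous)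
  refine ⟨⟨_, φ.left.isClosedMap _ hS⟩, rfl, Grp57.isIrreducible_image_prod φ h₁.1 h₂.1 T₂.isClosed, fun x hx => ?_⟩
  obtain ⟨w, hw, hwx⟩ := (range_subset_iff x _).1 hx
  have : JacobsonSpace (A ⊗ A).left := LocallyOfFiniteType.jacobsonSpace (A ⊗ A).hom
  have hne : ((fst A A).left ⁻¹' (T₁ : Set A.left) ∩ (snd A A).left ⁻¹' T₂ ∩ φ.left ⁻¹' {ptOf x}).Nonempty :=
    ⟨w, hw, hwx⟩
  obtain ⟨v, ⟨⟨hv1, hv2⟩, hv3⟩, hvc⟩ := nonempty_inter_closedPoints hne
    (hS.inter ((isClosed_ptOf x).preimage φ.left.continuous)).isLocallyClosed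
  let σ : 𝟙_ (Over (Spec (CommRingCat.of k))) ⟶ A ⊗ A :=
    Over.homMk (pointOfClosedPoint (A ⊗ A).hom v hvc) (pointOfClosedPoint_comp (A ⊗ A).hom v hvc)
  have hσ : σ.left (IsLocalRing.closedPoint k) = v := pointOfClosedPoint_apply (A ⊗ A).hom v hvc _
  have hp : ∀ ψ : A ⊗ A ⟶ A, ptOf (σ ≫ ψ) = ψ.left v := fun ψ => congrArg ψ.left hσ
  rw [show x = σ ≫ φ from ptOf_injective ((hp φ).trans hv3).symm]
  exact hφ σ (h₁.2 _ ((range_subset_iff _ _).2 (by rw [hp]; exact hv1)))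
    (h₂.2 _ ((range_subset_iff _ _).2 (by rw [hp]; exact hv2)))

include hK in
theorem exists_maximal {T : Closeds A.left} (hT : Admissible K T) :
    ∃ W, T ≤ W ∧ Maximal (Admissible K) W := by
  classical
  have : NoetherianSpace A.left := Var76.FibreBound.noetherianSpace A.hom
  let D : Set ℕ := {d | ∃ W, Admissible K W ∧ T ≤ W ∧ ∃ gp, IsGenericPoint gp (W : Set A.left) ∧ WC97.tdegN A.hom gp = d}
  have hgen : ∀ W : Closeds A.left, Admissible K W → ∃ gp, IsGenericPoint gp (W : Set A.left) :=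
    fun W hW => QuasiSober.sober hW.1 W.isClosed
  have hD : D.Nonempty := by
    obtain ⟨gp, hgp⟩ := hgen T hT
    exact ⟨_, T, hT, le_rfl, gp, hgp, rfl⟩
  have hbdd : BddAbove D := by
    have : Nonempty A.left := ⟨hT.1.nonempty.some⟩
    obtain ⟨z, -, hz⟩ := Var76.FibreBound.exists_tdegN_eq_dim A.hom
    refine ⟨WC97.tdegN A.hom z, ?_⟩
    rintro d ⟨W, -, -, gp, -, rfl⟩
    exact_mod_cast (Var76.FibreBound.tdegN_le_dim A.hom gp).trans hz.le
  obtain ⟨W, hW, hTW, gp, hgp, hd⟩ := Nat.sSup_mem hD hbdd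
  refine ⟨W, hTW, hW, fun W' hW' hle => ?_⟩
  obtain ⟨gp', hgp'⟩ := hgen W' hW'
  have h1 : WC97.tdegN A.hom gp' ≤ WC97.tdegN A.hom gp :=
    hd ▸ le_csSup hbdd ⟨W', hW', hTW.trans hle, gp', hgp', rfl⟩
  have h2 := Var76.FibreBound.eq_of_tdegN_le A.hom (hgp'.specializes (hle hgp.mem)) h1
  exact (SetLike.coe_injective (hgp'.def.symm.trans (h2 ▸ hgp.def)) : W' = W).le

include hK in
theorem existsUnique_maximal_admissible :
    (∃! T : Closeds A.left, Maximal (Admissible K) T ∧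
      Set.range ⇑(1 : 𝟙_ (Over (Spec (CommRingCat.of k))) ⟶ A).left.base ⊆ (T : Set A.left)) ∧
    ∀ T : Closeds A.left, Maximal (Admissible K) T →
      Set.range ⇑(1 : 𝟙_ (Over (Spec (CommRingCat.of k))) ⟶ A).left.base ⊆ (T : Set A.left) →
      (∃ n, (T : Set A.left) ⊆ (Z n : Set A.left)) ∧
      ∀ x y : 𝟙_ (Over (Spec (CommRingCat.of k))) ⟶ A,
        Set.range ⇑x.left.base ⊆ (T : Set A.left) → Set.range ⇑y.left.base ⊆ (T : Set A.left) →
        Set.range ⇑(x * y⁻¹).left.base ⊆ (T : Set A.left) := by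
  have he : ptOf (1 : 𝟙_ (Over (Spec (CommRingCat.of k))) ⟶ A) = Grp57.unitPt A := Grp57.one_apply _ _
  have hμ : ∀ σ : 𝟙_ (Over (Spec (CommRingCat.of k))) ⟶ A ⊗ A,
      σ ≫ fst A A ∈ K → σ ≫ snd A A ∈ K → σ ≫ μ[A] ∈ K := fun σ a b => by
    rw [show σ ≫ μ[A] = (σ ≫ fst A A) * (σ ≫ snd A A) by rw [Hom.mul_def]; congr 1; ext <;> simp]
    exact K.mul_mem a b
  let ψ : A ⊗ A ⟶ A := fst A A * (snd A A)⁻¹
  have hψ : ∀ σ : 𝟙_ (Over (Spec (CommRingCat.of k))) ⟶ A ⊗ A,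
      σ ≫ fst A A ∈ K → σ ≫ snd A A ∈ K → σ ≫ ψ ∈ K := fun σ a b => by
    rw [MonObj.comp_mul, GrpObj.comp_inv]
    exact K.mul_mem a (K.inv_mem b)
  have huniq : ∀ T₁ T₂ : Closeds A.left, Maximal (Admissible K) T₁ → Maximal (Admissible K) T₂ →
      Grp57.unitPt A ∈ T₁ → Grp57.unitPt A ∈ T₂ → T₁ = T₂ := by
    intro T₁ T₂ h₁ h₂ e₁ e₂
    obtain ⟨T, hT, hTa⟩ := admissible_image μ[A] hμ h₁.1 h₂.1
    have l₁ : T₁ ≤ T := SetLike.coe_subset_coe.1 ((Grp57.subset_image_mul_right e₂).trans hT.ge)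
    have l₂ : T₂ ≤ T := SetLike.coe_subset_coe.1 ((Grp57.subset_image_mul_left e₁).trans hT.ge)
    exact (h₁.eq_of_le hTa l₁).trans (h₂.eq_of_le hTa l₂).symm
  have h0 : Admissible K ⟨{ptOf (1 : 𝟙_ (Over (Spec (CommRingCat.of k))) ⟶ A)}, isClosed_ptOf 1⟩ :=
    ⟨isIrreducible_singleton, fun x hx => by
      rw [show x = 1 from ptOf_injective ((range_subset_iff x _).1 hx)]
      exact K.one_mem⟩
  obtain ⟨W, hle, hW⟩ := exists_maximal hK h0
  refine ⟨⟨W, ⟨hW, (range_subset_iff _ _).2 (hle rfl)⟩, fun T hT => ?_⟩, fun T hT heT => ⟨?_, fun x y hx hy => ?_⟩⟩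
  · exact huniq T W hT.1 hW (he ▸ (range_subset_iff _ _).1 hT.2) (he ▸ hle rfl)
  · exact hT.1.exists_subset hK
  · have e : Grp57.unitPt A ∈ T := he ▸ (range_subset_iff _ _).1 heT
    obtain ⟨T', hT', hTa⟩ := admissible_image ψ hψ hT.1 hT.1
    have hsub : T ≤ T' := by
      intro t ht
      rw [← SetLike.mem_coe, hT']
      refine ⟨(lift (𝟙 A) (1 : A ⟶ A)).left t, ⟨?_, ?_⟩, ?_⟩
      · rw [Set.mem_preimage, Grp57.left_apply _ _ _ (lift_fst _ _)]; exact ht
      · rw [Set.mem_preimage, Grp57.left_apply _ _ _ (lift_snd _ _), Grp57.one_apply]; exact e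
      · rw [Grp57.left_apply _ _ (𝟙 A) (by simp [ψ, MonObj.comp_mul, GrpObj.comp_inv])]; rfl
    rw [range_subset_iff, show T = T' from hT.eq_of_le hTa hsub, hT']
    refine ⟨(lift x y).left (IsLocalRing.closedPoint k), ⟨?_, ?_⟩, ?_⟩
    · rw [Set.mem_preimage, Grp57.left_apply _ _ _ (lift_fst _ _)]; exact (range_subset_iff _ _).1 hx
    · rw [Set.mem_preimage, Grp57.left_apply _ _ _ (lift_snd _ _)]; exact (range_subset_iff _ _).1 hy
    · exact Grp57.left_apply _ _ _ (by simp [ψ, MonObj.comp_mul, GrpObj.comp_inv]) _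

end Groth.Agent.GrpSch58
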