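import Groth.Agent.FEt83.NormalCover
import Groth.Agent.SchBasics.Local
import Groth.Agent.SchDense58.Basic
import Mathlib.AlgebraicGeometry.Morphisms.Etale
import Mathlib.AlgebraicGeometry.Morphisms.FlatMono
import Mathlib.AlgebraicGeometry.Morphisms.SchemeTheoreticallyDominant

/-!
Alignment lifts along etale morphisms over a normal base.
-/

set_option autoImplicit false

universe u

open CategoryTheory CategoryTheory.Limits AlgebraicGeometry TopologicalSpace

noncomputable section

namespace Groth.Agent.GrpSch58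

theorem isOpen_closure_of_isOpen {W : Scheme.{u}} [IsLocallyNoetherian W]
    (hW : ∀ x : W, IsDomain (W.presheaf.stalk x)) {U : Set W} (hU : IsOpen U) : IsOpen (closure U) := by
  refine isOpen_iff_forall_mem_open.2 fun x hx => ?_
  have := hW x
  obtain ⟨V, hxV, hV⟩ := SchBasics.exists_isIntegral_nhd x
  refine ⟨V, ?_, V.2, hxV⟩
  obtain ⟨z, hzV, hzU⟩ := mem_closure_iff.1 hx V V.2 hxV
  have hirr : IsPreirreducible (V : Set W) := by
    have := (IrreducibleSpace.isIrreducible_univ (V : Scheme.{u})).image V.ι V.ι.continuous.continuousOn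
    rw [Set.image_univ, Scheme.Opens.range_ι] at this
    exact this.2
  intro y hy
  rw [mem_closure_iff]
  intro O hO hyO
  obtain ⟨z', _, h1, h2⟩ := hirr O U hO hU ⟨y, hy, hyO⟩ ⟨z, hzV, hzU⟩
  exact ⟨z', h1, h2⟩

theorem isNormalScheme_of_etale_of_isLocallyNoetherian {S W : Scheme.{u}} [IsLocallyNoetherian S]
    (hS : Pi1.IsNormalScheme S) (f : W ⟶ S) [Etale f] : Pi1.IsNormalScheme W := by
  intro w
  have := (hS (f w)).1
  obtain ⟨V, hwV, hV⟩ := SchBasics.exists_isIntegral_nhd (f w)
  have hVn : Pi1.IsNormalScheme (V : Scheme.{u}) := fun v => by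
    obtain ⟨h1, h2⟩ := hS v.1
    exact ⟨(V.stalkIso v).commRingCatIsoToRingEquiv.toMulEquiv.isDomain _,
      IsIntegrallyClosed.of_equiv (V.stalkIso v).commRingCatIsoToRingEquiv.symm⟩
  have : Etale (f ∣_ V) := IsZariskiLocalAtTarget.restrict ‹_› V
  obtain ⟨h1, h2⟩ := FEt83.isNormalScheme_of_etale hVn (f ∣_ V) ⟨w, hwV⟩
  exact ⟨((f ⁻¹ᵁ V).stalkIso ⟨w, hwV⟩).commRingCatIsoToRingEquiv.symm.toMulEquiv.isDomain _,
    IsIntegrallyClosed.of_equiv ((f ⁻¹ᵁ V).stalkIso ⟨w, hwV⟩).commRingCatIsoToRingEquiv⟩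

theorem etale_image_of_etale {S G H : Scheme.{u}} [IsLocallyNoetherian S] (hS : Pi1.IsNormalScheme S)
    (p : G ⟶ S) (q : H ⟶ S) (eG : S ⟶ G) (eH : S ⟶ H) (heG : eG ≫ p = 𝟙 S)
    (f : G ⟶ H) [Etale f] (hf : f ≫ q = p) (hfe : eG ≫ f = eH)
    (hH : Etale (eH.ker.subschemeι ≫ q)) :
    Etale (eG.ker.subschemeι ≫ p) := by
  let W := pullback f eH.imageι
  let w : W ⟶ G := pullback.fst f eH.imageι
  have : IsClosedImmersion w := MorphismProperty.pullback_fst _ _ inferInstance
  let πW : W ⟶ S := w ≫ p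
  have hπW : Etale πW := by
    have e : πW = pullback.snd f eH.imageι ≫ eH.imageι ≫ q := by
      rw [← pullback.condition_assoc, hf]
    rw [e]
    have : Etale (pullback.snd f eH.imageι) := MorphismProperty.pullback_snd _ _ inferInstance
    exact MorphismProperty.comp_mem _ _ _ this hH
  let s : S ⟶ W := pullback.lift eG eH.toImage (by rw [hfe, Scheme.Hom.toImage_imageι])
  have hs : s ≫ w = eG := pullback.lift_fst _ _ _
  have hsπ : s ≫ πW = 𝟙 S := by rw [← Category.assoc, hs, heG]
  have : Mono (s ≫ πW) := by rw [hsπ]; infer_instance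
  have : Mono s := mono_of_mono s πW
  have : Etale (s ≫ πW) := by rw [hsπ]; infer_instance
  have : Etale s := Etale.of_comp s πW
  have : IsOpenImmersion s := IsOpenImmersion.of_flat_of_mono s
  have : IsLocallyNoetherian W := LocallyOfFiniteType.isLocallyNoetherian πW
  have hW := isNormalScheme_of_etale_of_isLocallyNoetherian hS πW
  have : IsReduced W :=
    have := fun x : W => (hW x).1
    isReduced_of_isReduced_stalk W
  let C : W.Opens := ⟨closure (Set.range s), isOpen_closure_of_isOpen (fun x => (hW x).1) s.opensRange.2⟩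
  have : IsClosedImmersion C.ι := by
    refine .of_isPreimmersion C.ι ?_
    rw [Scheme.Opens.range_ι]
    exact isClosed_closure
  let t : S ⟶ C := IsOpenImmersion.lift C.ι s (by rw [Scheme.Opens.range_ι]; exact subset_closure)
  have ht : t ≫ C.ι = s := IsOpenImmersion.lift_fac _ _ _
  have : IsDominant t := by
    rw [isDominant_iff, DenseRange, dense_iff_closure_eq, C.ι.isOpenEmbedding.isEmbedding.closure_eq_preimage_closure_image,
      Set.eq_univ_iff_forall]
    intro x
    show C.ι x ∈ closure (C.ι '' Set.range t)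
    rw [← Set.range_comp, ← TopCat.coe_comp, ← Scheme.Hom.comp_base, ht]
    exact x.2
  have : IsSchemeTheoreticallyDominant t := .of_isDominant t
  let k : (C : Scheme.{u}) ⟶ G := C.ι ≫ w
  have hker : eG.ker = k.ker := by
    rw [← hs, ← ht, Category.assoc, Scheme.Hom.ker_comp, t.ker_eq_bot, Scheme.IdealSheafData.map_bot]
  rw [hker]
  have := (MorphismProperty.cancel_left_of_respectsIso @Etale k.toImage (k.imageι ≫ p)).1 (by
    rw [Scheme.Hom.toImage_imageι_assoc]
    show Etale ((C.ι ≫ w) ≫ p)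
    rw [Category.assoc]
    exact MorphismProperty.comp_mem @Etale C.ι πW inferInstance hπW)
  exact this

end Groth.Agent.GrpSch58
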