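import Groth.Agent.SGA3a.GrpSep
import Groth.Agent.SchDense58.Basic
import Groth.Prelude.Def_CInt
import Mathlib.AlgebraicGeometry.Morphisms.Etale
import Mathlib.AlgebraicGeometry.Morphisms.SchemeTheoreticallyDominant
import Mathlib.AlgebraicGeometry.Noetherian

/-!
Aligned group schemes with the weak Néron mapping property are separated.
-/

set_option autoImplicit false

universe u

open CategoryTheory CategoryTheory.Limits MonoidalCategory CartesianMonoidalCategory MonObj AlgebraicGeometry

noncomputable section

namespace Groth.Agent.GrpSch58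

/-- A scheme-theoretically dominant map is an epimorphism against separated targets. -/
theorem eq_of_schDominant {C P H S : Scheme.{u}} (c : C ⟶ P) [IsSchemeTheoreticallyDominant c]
    {a b : P ⟶ H} (q : H ⟶ S) [IsSeparated q] (hq : a ≫ q = b ≫ q) (h : c ≫ a = c ≫ b) : a = b := by
  let d := pullback.lift a b hq
  let e := pullback.fst d (pullback.diagonal q)
  have : IsClosedImmersion e := MorphismProperty.pullback_fst _ _ inferInstance
  let l : C ⟶ pullback d (pullback.diagonal q) := pullback.lift c (c ≫ a)
    (by apply pullback.hom_ext <;> simp only [d, Category.assoc, pullback.lift_fst, pullback.lift_snd, pullback.diagonal_fst, pullback.diagonal_snd, Category.comp_id, h])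
  have hl : l ≫ e = c := pullback.lift_fst _ _ _
  have : IsIso e := by
    rw [IsClosedImmersion.isIso_iff_ker_eq_bot, ← le_bot_iff, ← c.ker_eq_bot, ← hl]
    exact Scheme.Hom.le_ker_comp l e
  have h1 : e ≫ a = pullback.snd d (pullback.diagonal q) := by
    simpa only [d, e, Category.assoc, pullback.lift_fst, pullback.diagonal_fst, Category.comp_id] using
      pullback.condition (f := d) (g := pullback.diagonal q) =≫ pullback.fst q q
  have h2 : e ≫ b = pullback.snd d (pullback.diagonal q) := by
    simpa only [d, e, Category.assoc, pullback.lift_snd, pullback.diagonal_snd, Category.comp_id] using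
      pullback.condition (f := d) (g := pullback.diagonal q) =≫ pullback.snd q q
  exact (cancel_epi e).1 (h1.trans h2.symm)

theorem isSeparated_of_aligned_of_weakNeron {S : Scheme.{u}} [IsLocallyNoetherian S] (S₀ : S.Opens)
    (G : Over S) (hG : ∀ U : Over S, Etale U.hom → Function.Bijective (fun g : U ⟶ G => (Over.pullback S₀.ι).map g))
    (H : Over S) [GrpObj H] [LocallyOfFiniteType H.hom] (j : H ⟶ G) [Mono j.left]
    (hal : Etale (η[H].left.ker.subschemeι ≫ H.hom))
    (h0 : IsSeparated (Limits.pullback.snd H.hom S₀.ι)) :
    IsSeparated H.hom := by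
  have : IsLocallyNoetherian H.left := LocallyOfFiniteType.isLocallyNoetherian H.hom
  let e : S ⟶ H.left := η[H].left
  have he : e ≫ H.hom = 𝟙 S := Over.w η[H]
  have : IsImmersion e := by
    have : IsImmersion (e ≫ H.hom) := by rw [he]; infer_instance
    exact IsImmersion.of_comp e H.hom
  have : QuasiCompact (e ≫ H.hom) := by rw [he]; infer_instance
  have : QuasiCompact e := QuasiCompact.of_comp e H.hom
  have hdom : IsSchemeTheoreticallyDominant e.toImage := ⟨SchDense58.toImage_ker_eq_bot e⟩
  let iZ : e.image ⟶ H.left := e.imageι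
  let π : e.image ⟶ S := iZ ≫ H.hom
  have hπ : Etale π := hal
  have hsec : e.toImage ≫ π = 𝟙 S := by
    show e.toImage ≫ e.imageι ≫ H.hom = _
    rw [Scheme.Hom.toImage_imageι_assoc, he]
  let U : Over S := Over.mk π
  let g1 : U ⟶ H := Over.homMk iZ rfl
  let g2 : U ⟶ H := Over.homMk (π ≫ e) (by rw [Category.assoc, he, Category.comp_id]; rfl)
  have key : (Over.pullback S₀.ι).map g1 = (Over.pullback S₀.ι).map g2 := by
    ext1
    have : Flat (pullback.fst π S₀.ι) := inferInstance
    let P := pullback π S₀.ι
    let c := pullback.snd e.toImage (pullback.fst π S₀.ι)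
    refine eq_of_schDominant (C := _) c (pullback.snd H.hom S₀.ι) ?_ ?_
    · simp only [g1, g2, Over.pullback_map_left]
      exact (pullback.lift_snd _ _ _).trans (pullback.lift_snd _ _ _).symm
    · apply pullback.hom_ext
      · have hc := pullback.condition (f := e.toImage) (g := pullback.fst π S₀.ι)
        simp only [g1, g2, Over.pullback_map_left, Category.assoc]
        simp only [Over.homMk_left, pullback.lift_fst, pullback.lift_fst_assoc]
        change c ≫ pullback.fst π S₀.ι ≫ iZ = c ≫ pullback.fst π S₀.ι ≫ π ≫ e
        rw [← Category.assoc c, ← Category.assoc c, ← hc, Category.assoc, Category.assoc, reassoc_of% hsec]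
        exact congrArg _ e.toImage_imageι
      · simp only [g1, g2, Over.pullback_map_left, Category.assoc]
        exact congrArg (c ≫ ·) ((pullback.lift_snd _ _ _).trans (pullback.lift_snd _ _ _).symm)
  have h12 : g1 ≫ j = g2 ≫ j := (hG U hπ).1 (by
    show (Over.pullback S₀.ι).map (g1 ≫ j) = (Over.pullback S₀.ι).map (g2 ≫ j)
    rw [Functor.map_comp, Functor.map_comp, key])
  have hι : iZ = π ≫ e := (cancel_mono j.left).1 (congrArg Over.Hom.left h12)
  have : IsIso e.toImage := ⟨π, hsec, by
    rw [← cancel_mono e.imageι, Category.assoc, Scheme.Hom.toImage_imageι, Category.id_comp]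
    exact hι.symm⟩
  have : IsClosedImmersion e := by
    rw [← e.toImage_imageι]; infer_instance
  exact SGA3a.isSeparated_of_isClosedImmersion_one H

end Groth.Agent.GrpSch58
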