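import Groth.Agent.Div89.DepthTwo
import Groth.Agent.Amp73.GlobGen
import Groth.Agent.Mero90.Frames
import Groth.Agent.CAlg1.FlatFibre
import Groth.Agent.EGA4Alg4.DepthChange
import Groth.Agent.GrpSch58.Dense
import Mathlib.AlgebraicGeometry.Morphisms.Smooth

/-!
Sections of an invertible module across the preimage of a big open under a flat morphism.
-/

set_option autoImplicit false

universe u

open CategoryTheory CategoryTheory.Limits AlgebraicGeometry TopologicalSpace Opposite
open Groth.Agent.QC70 Groth.Agent.Var76.LineBundle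

noncomputable section

namespace Groth.Agent.GrpSch58

variable {S A : Scheme.{u}} [IsLocallyNoetherian S] (f : A ⟶ S) [Flat f] [LocallyOfFiniteType f]

theorem two_le_depth_preimage (L : A.Modules) (hL : PicF.IsInvertible L) (y : A)
    (h : 2 ≤ LocCoh.depth (S.presheaf.stalk (f y)) (S.presheaf.stalk (f y))) :
    2 ≤ LocCoh.depth (A.presheaf.stalk y) (L.presheaf.stalk y) := by
  have : IsLocallyNoetherian A := LocallyOfFiniteType.isLocallyNoetherian f
  obtain ⟨U, hy, e, he⟩ := Mero90.exists_frame' hL y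
  let φ := LinearEquiv.ofBijective (LinearMap.toSpanSingleton (A.presheaf.stalk y) (L.presheaf.stalk y)
    (L.presheaf.germ U y hy e)) (Mero90.frame_germ_bijective he ⟨y, hy⟩)
  rw [← EGA4Alg4.depth_eq_of_equiv φ]
  letI := (f.stalkMap y).hom.toAlgebra
  have : IsLocalHom (algebraMap (S.presheaf.stalk (f y)) (A.presheaf.stalk y)) :=
    inferInstanceAs (IsLocalHom (f.stalkMap y).hom)
  have : Module.Flat (S.presheaf.stalk (f y)) (A.presheaf.stalk y) := Flat.stalkMap f y
  rw [CAlg1.depth_of_flat_local (S.presheaf.stalk (f y)) (A.presheaf.stalk y)]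
  exact h.trans le_self_add

theorem schDense_preimage (V : S.Opens) (hV : CInt.IsSchematicallyDense V) :
    CInt.IsSchematicallyDense (f ⁻¹ᵁ V) := by
  have : IsLocallyNoetherian A := LocallyOfFiniteType.isLocallyNoetherian f
  have := isSchemeTheoreticallyDominant_of_schDense V hV
  have : IsSchemeTheoreticallyDominant (f ⁻¹ᵁ V).ι :=
    IsSchemeTheoreticallyDominant.of_isPullback (isPullback_morphismRestrict f V)
  intro W
  have hinj := Scheme.Hom.app_injective (f ⁻¹ᵁ V).ι W
  rw [injective_iff_map_eq_zero]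
  intro a ha
  refine hinj (Eq.trans ?_ (map_zero _).symm)
  rw [Scheme.Opens.ι_app]
  have he : W ⊓ f ⁻¹ᵁ V = (f ⁻¹ᵁ V).ι ''ᵁ ((f ⁻¹ᵁ V).ι ⁻¹ᵁ W) := by
    rw [Scheme.Hom.image_preimage_eq_opensRange_inf, Scheme.Opens.opensRange_ι, inf_comm]
  have h1 := (congrArg (A.presheaf.map (eqToHom he.symm).op) ha).trans
    (map_zero (A.presheaf.map (eqToHom he.symm).op).hom)
  erw [← ConcreteCategory.comp_apply, ← Functor.map_comp] at h1
  exact h1

omit [IsLocallyNoetherian S] in
theorem injective_res_of_schDense {L : A.Modules} (hL : PicF.IsInvertible L) {V : A.Opens}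
    (hV : CInt.IsSchematicallyDense V) (W : A.Opens) :
    Function.Injective (QC70.res L (inf_le_left : W ⊓ V ≤ W)) := by
  refine (injective_iff_map_eq_zero _).2 fun s hs => ?_
  refine TopCat.Presheaf.IsSheaf.section_ext (Scheme.Modules.isSheaf L) fun x hx => ?_
  obtain ⟨O, hxO, e, he⟩ := Mero90.exists_frame' hL x
  refine ⟨W ⊓ O, inf_le_left, ⟨hx, hxO⟩, ?_⟩
  obtain ⟨a, ha⟩ := (he (W ⊓ O) inf_le_right).2 (QC70.res L inf_le_left s)
  have hle : (W ⊓ O) ⊓ V ≤ W ⊓ O := inf_le_left
  have ha0 : A.presheaf.map (homOfLE hle).op a = 0 := by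
    refine (he ((W ⊓ O) ⊓ V) (hle.trans inf_le_right)).1 ?_
    show _ • _ = (0 : Γ(A, (W ⊓ O) ⊓ V)) • _
    rw [zero_smul]
    have h1 := congrArg (QC70.res L hle) ha
    rw [QC70.res_smul, QC70.res_res] at h1
    erw [QC70.res_res] at h1
    refine h1.trans ?_
    rw [← QC70.res_res (inf_le_left : W ⊓ V ≤ W) (inf_le_inf_right V inf_le_left)]
    exact (congrArg (QC70.res L _) hs).trans (map_zero _)
  have ha' : a = 0 := hV _ (ha0.trans (map_zero _).symm)
  subst ha'
  exact ha.symm.trans ((zero_smul _ _).trans (map_zero _).symm)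

end Groth.Agent.GrpSch58
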