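import Groth.Agent.RelGCI94.LocalCI
import Groth.Agent.RelGCI94.SyntLocal

/-!
A local ring is a complete intersection when its quotients by deep `m`-primary ideals are.
-/

set_option autoImplicit false

universe u

open IsLocalRing TensorProduct

namespace Groth.Agent.GrpSch58

open Groth.Agent.RelGCI94

variable {P : Type u} [CommRing P] [IsLocalRing P] [IsNoetherianRing P]

omit [IsNoetherianRing P] in
theorem one_tmul_eq_zero_iff {M : Type u} [AddCommGroup M] [Module P M] (m : M) :
    (1 : ResidueField P) ⊗ₜ[P] m = 0 ↔ m ∈ maximalIdeal P • (⊤ : Submodule P M) := by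
  let e := TensorProduct.quotTensorEquivQuotSMul M (maximalIdeal P)
  have h : e ((Ideal.Quotient.mk _ (1 : P)) ⊗ₜ m) = Submodule.Quotient.mk ((1 : P) • m) :=
    TensorProduct.quotTensorEquivQuotSMul_mk_tmul _ _ _
  rw [one_smul] at h
  rw [← Submodule.Quotient.mk_eq_zero, ← h]
  exact (LinearEquiv.map_eq_zero_iff e).symm

theorem exists_gens_sup {J M : Ideal P} (hJM : J ≤ M) (h : J ⊓ maximalIdeal P * M ≤ maximalIdeal P * J) :
    ∃ (r : ℕ) (g : Fin r → P), M = J ⊔ Ideal.span (Set.range g) ∧ J.spanFinrank + r = M.spanFinrank := by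
  classical
  let k := ResidueField P
  let i : J →ₗ[P] M := Submodule.inclusion hJM
  let Q := M ⧸ LinearMap.range i
  let π : M →ₗ[P] Q := (LinearMap.range i).mkQ
  have hπ : Function.Surjective π := Submodule.mkQ_surjective _
  have hex : Function.Exact (i.baseChange k) (π.baseChange k) :=
    lTensor_exact k (LinearMap.exact_iff.2 (Submodule.ker_mkQ _)) hπ
  have hsurj : Function.Surjective (π.baseChange k) := LinearMap.lTensor_surjective k hπ
  have hinj : Function.Injective (i.baseChange k) := by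
    refine (injective_iff_map_eq_zero _).2 fun t ht => ?_
    obtain ⟨n, rfl⟩ : ∃ n : J, (1 : k) ⊗ₜ[P] n = t := by
      clear ht
      induction t using TensorProduct.induction_on with
      | zero => exact ⟨0, tmul_zero _ _⟩
      | tmul a n =>
        obtain ⟨p, rfl⟩ := residue_surjective a
        exact ⟨p • n, by rw [← smul_tmul, Algebra.smul_def, mul_one]; rfl⟩
      | add a b ha hb =>
        obtain ⟨a, rfl⟩ := ha
        obtain ⟨b, rfl⟩ := hb
        exact ⟨a + b, tmul_add _ _ _⟩
    rw [LinearMap.baseChange_tmul] at ht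
    have h1 : i n ∈ maximalIdeal P • (⊤ : Submodule P M) := (one_tmul_eq_zero_iff _).1 ht
    have h2 : (n : P) ∈ maximalIdeal P * M := by
      have := Submodule.mem_map_of_mem (f := M.subtype) h1
      rwa [Submodule.map_smul'', Submodule.map_subtype_top, Ideal.smul_eq_mul] at this
    refine (one_tmul_eq_zero_iff _).2 ?_
    have h4 : (n : P) ∈ (maximalIdeal P • (⊤ : Submodule P J)).map J.subtype := by
      rw [Submodule.map_smul'', Submodule.map_subtype_top, Ideal.smul_eq_mul]
      exact h ⟨n.2, h2⟩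
    obtain ⟨n', hn', e⟩ := h4
    rwa [show n = n' from Subtype.ext e.symm]
  have hJ := TensorProduct.spanFinrank_top_eq_of_residueField (R := P) J J.fg_of_isNoetherianRing
  have hM := TensorProduct.spanFinrank_top_eq_of_residueField (R := P) M M.fg_of_isNoetherianRing
  rw [← Module.finrank_eq_spanFinrank_of_free] at hJ hM
  have : Module.Finite P M := Module.Finite.of_fg M.fg_of_isNoetherianRing
  have hrn := (π.baseChange k).finrank_range_add_finrank_ker
  rw [LinearMap.range_eq_top.2 hsurj, finrank_top, LinearMap.exact_iff.1 hex,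
    LinearMap.finrank_range_of_inj hinj, hJ, hM] at hrn
  obtain ⟨s, hs, hspan⟩ := (Module.Finite.fg_top (R := P) (M := Q)).exists_span_finset_card_eq_spanFinrank
  have hQ : Module.finrank k (k ⊗[P] Q) = (⊤ : Submodule P Q).spanFinrank :=
    by
      rw [← TensorProduct.spanFinrank_top_eq_of_residueField (⊤ : Submodule P Q) Module.Finite.fg_top,
        ← Module.finrank_eq_spanFinrank_of_free]
      exact ((Submodule.topEquiv (R := P) (M := Q)).baseChange P k _ _).finrank_eq.symm
  choose lift hlift using hπ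
  let e := s.equivFin
  refine ⟨s.card, fun j => (lift (e.symm j).1 : P), le_antisymm ?_ (sup_le hJM (Ideal.span_le.2 ?_)), ?_⟩
  · intro x hx
    have hx' : π ⟨x, hx⟩ ∈ (Submodule.span P (Set.range fun j => lift (e.symm j).1)).map π := by
      rw [Submodule.map_span, ← Set.range_comp]
      have : Set.range (π ∘ fun j => lift (e.symm j).1) = (s : Set Q) := by
        ext q
        simp only [Set.mem_range, Function.comp_apply, hlift, Finset.mem_coe]
        exact ⟨fun ⟨j, hj⟩ => hj ▸ (e.symm j).2, fun hq => ⟨e ⟨q, hq⟩, by simp⟩⟩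
      rw [this, hspan]
      trivial
    obtain ⟨y, hy, hxy⟩ := hx'
    obtain ⟨a, ha⟩ := (Submodule.Quotient.eq _).1 hxy
    have e1 : x = (y : P) - (a : P) := by
      have := congrArg (fun t : M => (t : P)) ha
      simp [i] at this
      rw [this]; ring
    rw [e1]
    refine sub_mem (Submodule.mem_sup_right ?_) (Submodule.mem_sup_left a.2)
    have := Submodule.mem_map_of_mem (f := M.subtype) hy
    rwa [Submodule.map_span, ← Set.range_comp] at this
  · rintro _ ⟨j, rfl⟩
    exact (lift (e.symm j).1).2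
  · rw [hs, ← hQ]
    omega

/-- The criterion. -/
theorem countCI_of_quotients (J : Ideal P) (hJ : J ≠ ⊤)
    (h : ∀ N : ℕ, ∃ I : Ideal P, I ≤ maximalIdeal P ^ N ∧ CountCI (J ⊔ I) ∧
      ringKrullDim (P ⧸ (J ⊔ I)) ≤ 0) :
    CountCI J := by
  obtain ⟨K, hK⟩ := Ideal.exists_pow_inf_eq_pow_smul (maximalIdeal P) (J : Submodule P P)
  obtain ⟨I, hI, hcount, hdim⟩ := h (K + 1)
  have hInf : J ⊓ maximalIdeal P * (J ⊔ I) ≤ maximalIdeal P * J := by
    rintro x ⟨hxJ, hx⟩
    rw [Ideal.mul_sup] at hx
    obtain ⟨a, ha, b, hb, rfl⟩ := Submodule.mem_sup.1 hx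
    refine add_mem ha ?_
    have hb1 : b ∈ J := by simpa using sub_mem hxJ ((Ideal.mul_le_right : maximalIdeal P * J ≤ J) ha)
    have hb2 : b ∈ maximalIdeal P ^ (K + 1) := hI ((Ideal.mul_le_right : maximalIdeal P * I ≤ I) hb)
    have hb3 : b ∈ maximalIdeal P ^ (K + 1) • (⊤ : Submodule P P) ⊓ J := ⟨by
      rw [Ideal.smul_eq_mul, Ideal.mul_top]; exact hb2, hb1⟩
    rw [hK (K + 1) (Nat.le_succ K), Nat.add_sub_cancel_left, pow_one, Ideal.smul_eq_mul] at hb3
    exact Ideal.mul_mono_right inf_le_right hb3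
  obtain ⟨r, g, hg, hr⟩ := exists_gens_sup (le_sup_left : J ≤ J ⊔ I) hInf
  have : Nontrivial (P ⧸ J) := Ideal.Quotient.nontrivial_iff.2 hJ
  have : IsLocalRing (P ⧸ J) := IsLocalRing.of_surjective' (Ideal.Quotient.mk J) Ideal.Quotient.mk_surjective
  let mk := Ideal.Quotient.mk J
  let M' : Ideal (P ⧸ J) := Ideal.span (Set.range (mk ∘ g))
  have hM' : (J ⊔ I).map mk = M' := by
    rw [hg, Ideal.map_sup, Ideal.map_quotient_self, bot_sup_eq, Ideal.map_span, ← Set.range_comp]
  have hM'top : (J ⊔ I) ≤ maximalIdeal P := sup_le (IsLocalRing.le_maximalIdeal hJ)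
    (hI.trans (Ideal.pow_le_self K.succ_ne_zero))
  have hjac : M' ≤ Ring.jacobson (P ⧸ J) := by
    rw [IsLocalRing.ringJacobson_eq_maximalIdeal, ← hM', CAlg1.maximalIdeal_quotient]
    exact Ideal.map_mono hM'top
  have hfin : M'.spanFinrank ≤ r := by
    refine (Submodule.spanFinrank_span_le_ncard_of_finite (Set.finite_range _)).trans ?_
    simpa [Set.image_univ, Function.comp_def] using Set.ncard_image_le (f := mk ∘ g) (s := Set.univ) Set.finite_univ
  have h0 : ringKrullDim ((P ⧸ J) ⧸ M') ≤ 0 := by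
    rw [← hM', ringKrullDim_eq_of_ringEquiv (DoubleQuot.quotQuotEquivQuotSup J (J ⊔ I))]
    rwa [sup_of_le_right le_sup_left]
  have h1 : ringKrullDim (P ⧸ J) ≤ (r : WithBot ℕ∞) :=
    (ringKrullDim_le_ringKrullDim_quotient_add_spanFinrank M' hjac).trans
      ((add_le_add h0 (Nat.cast_le.2 hfin)).trans_eq (zero_add _))
  refine le_antisymm ?_ (dim_le_quotient_add J hJ)
  refine (add_le_add h1 le_rfl).trans ?_
  rw [← Nat.cast_add, add_comm r, hr]
  have hne : J ⊔ I ≠ ⊤ := fun h => (maximalIdeal.isMaximal P).ne_top (top_le_iff.1 (h ▸ hM'top))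
  have : Nontrivial (P ⧸ (J ⊔ I)) := Ideal.Quotient.nontrivial_iff.2 hne
  refine le_of_le_of_eq ?_ hcount
  exact le_add_of_nonneg_left ringKrullDim_nonneg_of_nontrivial

end Groth.Agent.GrpSch58
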