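import Groth.Agent.Grp57.Connected

/-!
The identity component is covered by quotients of points of any of its nonempty opens.
-/

set_option autoImplicit false
universe u
open CategoryTheory CategoryTheory.Limits MonoidalCategory CartesianMonoidalCategory MonObj GrpObj AlgebraicGeometry

namespace Groth.Agent.GrpSch58

theorem subset_range_div {K : Type u} [Field K] [IsSepClosed K] (G : Over (Spec (CommRingCat.of K))) [GrpObj G]
    (U : G.left.Opens) (hne : (U : Set G.left).Nonempty)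
    (hU : (U : Set G.left) ⊆ connectedComponent (Grp57.unitPt G)) :
    connectedComponent (Grp57.unitPt G) ⊆ Set.range
      ((((Over.homMk U.ι rfl : Over.mk (U.ι ≫ G.hom) ⟶ G) ⊗ₘ
          ((Over.homMk U.ι rfl : Over.mk (U.ι ≫ G.hom) ⟶ G) ≫ ι[G])) ≫ μ[G]).left) := by
  let Z := irreducibleComponent (Grp57.unitPt G)
  have hZ : Z ∈ irreducibleComponents (G.left : Type u) := irreducibleComponent_mem_irreducibleComponents _
  have he : Grp57.unitPt G ∈ Z := mem_irreducibleComponent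
  rw [Grp57.connectedComponent_eq hZ he] at hU ⊢
  intro x hx
  obtain ⟨u₀, hu₀⟩ := hne
  let A := (fst G G).left ⁻¹' {x} ∩ (snd G G).left ⁻¹' Z
  have hA : IsIrreducible A :=
    Grp57.isIrreducible_prod G.hom G.hom isIrreducible_singleton hZ.1 (isClosed_of_mem_irreducibleComponents _ hZ)
  obtain ⟨w₁, h1, h2⟩ := Grp57.exists_pair hZ he x u₀
  obtain ⟨w₂, h3, h4⟩ := Grp57.exists_pair hZ he u₀ x
  let ψ : G ⊗ G ⟶ G := (snd G G)⁻¹ * fst G G
  have hψ : ψ.left w₂ ∈ Z := by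
    refine Grp57.subset_component Grp57.uniqueComp_unit_sepClosed hZ he
      (Grp57.isIrreducible_image_prod ψ hZ.1 hZ.1 (isClosed_of_mem_irreducibleComponents _ hZ)) ?_
      ⟨w₂, ⟨by rw [Set.mem_preimage, h3]; exact hU hu₀, by rw [Set.mem_preimage, h4]; exact hx⟩, rfl⟩
    refine ⟨(lift (𝟙 G) (𝟙 G)).left (Grp57.unitPt G), ⟨?_, ?_⟩, ?_⟩
    · rw [Set.mem_preimage, Grp57.left_apply _ _ _ (lift_fst _ _)]; exact he
    · rw [Set.mem_preimage, Grp57.left_apply _ _ _ (lift_snd _ _)]; exact he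
    · rw [Grp57.left_apply _ _ (1 : G ⟶ G) (by simp [ψ, comp_mul, GrpObj.comp_inv]), Grp57.one_apply]
  obtain ⟨w, hwA, hw1, hw2⟩ := hA.isPreirreducible ((snd G G).left ⁻¹' U) ((fst G G * snd G G).left ⁻¹' U)
    (U.isOpen.preimage (snd G G).left.continuous) (U.isOpen.preimage (fst G G * snd G G).left.continuous)
    ⟨w₁, ⟨h1, by rw [Set.mem_preimage, h2]; exact hU hu₀⟩, by rw [Set.mem_preimage, h2]; exact hu₀⟩
    ⟨(lift (snd G G) ψ).left w₂,
      ⟨by rw [Set.mem_preimage, Grp57.left_apply _ _ _ (lift_fst _ _)]; exact h4,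
       by rw [Set.mem_preimage, Grp57.left_apply _ _ _ (lift_snd _ _)]; exact hψ⟩,
       by rw [Set.mem_preimage, Grp57.left_apply _ _ (fst G G) (by simp [ψ, comp_mul]), h3]; exact hu₀⟩
  let f : Over.mk (U.ι ≫ G.hom) ⟶ G := Over.homMk U.ι rfl
  have h : ((f ⊗ₘ f).left : _ ⟶ (G ⊗ G).left) = pullback.map (U.ι ≫ G.hom)
      (U.ι ≫ G.hom) G.hom G.hom U.ι U.ι (𝟙 _) (by simp) (by simp) := by
    apply pullback.hom_ext
    · rw [pullback.lift_fst]; simp [f]
    · rw [pullback.lift_snd]; simp [f]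
  have hm : (lift (fst G G * snd G G) (snd G G)).left w ∈ Set.range (f ⊗ₘ f).left := by
    rw [h, Scheme.Pullback.range_map, Scheme.Opens.range_ι]
    refine ⟨?_, ?_⟩
    · rw [Set.mem_preimage, ← Over.fst_left, Grp57.left_apply _ _ _ (lift_fst _ _)]; exact hw2
    · rw [Set.mem_preimage, ← Over.snd_left, Grp57.left_apply _ _ _ (lift_snd _ _)]; exact hw1
  obtain ⟨v, hv⟩ := hm
  refine ⟨v, ?_⟩
  have e : (f ⊗ₘ (f ≫ ι[G])) ≫ μ[G] = (f ⊗ₘ f) ≫ (fst G G * (snd G G)⁻¹) := by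
    rw [MonObj.comp_mul, GrpObj.comp_inv, Hom.mul_def, Hom.inv_def]
    congr 1
    ext <;> simp
  change ((f ⊗ₘ (f ≫ ι[G])) ≫ μ[G]).left v = x
  rw [e, Over.comp_left, Scheme.Hom.comp_apply, hv,
    Grp57.left_apply _ _ (fst G G) (by simp [comp_mul, GrpObj.comp_inv])]
  exact hwA.1

end Groth.Agent.GrpSch58
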