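import Groth.Prelude.Def_AlgGrp
import Groth.Agent.Unr55.DescProps
import Mathlib.CategoryTheory.Monoidal.Cartesian.Grp
import Mathlib.CategoryTheory.Monoidal.Cartesian.Over
import Mathlib.CategoryTheory.Limits.Constructions.Over.Connected

/-!
Homomorphisms of extensions of group schemes.
-/

set_option autoImplicit false

universe u

open CategoryTheory CategoryTheory.Limits MonoidalCategory CartesianMonoidalCategory MonObj GrpObj AlgebraicGeometry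

namespace Groth.Agent.GrpSch58

section Cat

variable {C : Type*} [Category C] [CartesianMonoidalCategory C]

theorem comp_hom_mul {T G H : C} [GrpObj G] [GrpObj H] (f g : T ⟶ G) (b : G ⟶ H) [IsMonHom b] :
    (f * g) ≫ b = (f ≫ b) * (g ≫ b) := by
  rw [Hom.mul_def, Hom.mul_def, Category.assoc, IsMonHom.mul_hom, ← Category.assoc, lift_map]

theorem inv_comp_hom {T G H : C} [GrpObj G] [GrpObj H] (f : T ⟶ G) (b : G ⟶ H) [IsMonHom b] :
    f⁻¹ ≫ b = (f ≫ b)⁻¹ := by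
  refine eq_inv_of_mul_eq_one_left ?_
  rw [← comp_hom_mul, inv_mul_cancel, Hom.one_def, Category.assoc, IsMonHom.one_hom, ← Hom.one_def]

/-- Shear: the product with the kernel is the fibre product over the quotient. -/
theorem isPullback_torsor {N G Q X : C} [GrpObj G] [GrpObj Q] (a : N ⟶ G) (b : G ⟶ Q) [IsMonHom b]
    (h : IsPullback a (toUnit N) b η[Q]) (j : X ⟶ G) (c : X ⟶ Q) (hc : j ≫ b = c) :
    IsPullback (fst X N) ((fst X N ≫ j) * (snd X N ≫ a)) c b := by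
  subst hc
  have hone : ∀ {T : C} (z : T ⟶ N), (z ≫ a) ≫ b = 1 := fun z => by
    rw [Category.assoc, h.w, ← Category.assoc, toUnit_unique (z ≫ toUnit N) (toUnit _), ← Hom.one_def]
  have hker : ∀ s : PullbackCone (j ≫ b) b, ((s.fst ≫ j)⁻¹ * s.snd) ≫ b = toUnit _ ≫ η[Q] := fun s => by
    rw [comp_hom_mul, inv_comp_hom, Category.assoc, s.condition, inv_mul_cancel, Hom.one_def]
  refine ⟨⟨?_⟩, ⟨PullbackCone.IsLimit.mk _
    (fun s => lift s.fst (h.lift ((s.fst ≫ j)⁻¹ * s.snd) (toUnit _) (hker s))) (fun s => by simp)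
    (fun s => ?_) (fun s m h1 h2 => ?_)⟩⟩
  · rw [comp_hom_mul, hone, _root_.mul_one, Category.assoc]
  · rw [MonObj.comp_mul, lift_fst_assoc, lift_snd_assoc, h.lift_fst, mul_inv_cancel_left]
  · apply CartesianMonoidalCategory.hom_ext
    · simpa using h1
    · rw [lift_snd]
      refine h.hom_ext ?_ (toUnit_unique _ _)
      rw [h.lift_fst, Category.assoc, eq_inv_mul_iff_mul_eq, ← h1, ← h2, MonObj.comp_mul, Category.assoc]

/-- The square exhibiting a map of extensions as a descent of the map of kernels. -/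
theorem isPullback_extension {N₁ G₁ Q₁ N₂ G₂ Q₂ P : C} [GrpObj N₂] [GrpObj G₁] [GrpObj Q₁] [GrpObj G₂] [GrpObj Q₂]
    (a₁ : N₁ ⟶ G₁) (b₁ : G₁ ⟶ Q₁) [IsMonHom b₁] (h₁ : IsPullback a₁ (toUnit N₁) b₁ η[Q₁])
    (a₂ : N₂ ⟶ G₂) (b₂ : G₂ ⟶ Q₂) [IsMonHom b₂] (h₂ : IsPullback a₂ (toUnit N₂) b₂ η[Q₂])
    (j' : N₁ ⟶ N₂) (j : G₁ ⟶ G₂) [IsMonHom j] (j'' : Q₁ ⟶ Q₂)
    (sq₁ : a₁ ≫ j = j' ≫ a₂) (sq₂ : b₁ ≫ j'' = j ≫ b₂)
    (p : P ⟶ Q₁) (q : P ⟶ G₂) (hP : IsPullback p q j'' b₂) :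
    ∃ (ψ : G₁ ⊗ N₂ ⟶ P) (φ : G₁ ⊗ N₁ ⟶ G₁) (u : G₁ ⟶ P),
      u ≫ q = j ∧ IsPullback (fst G₁ N₂) ψ b₁ p ∧ IsPullback (G₁ ◁ j') φ ψ u := by
  have O₂ := isPullback_torsor a₂ b₂ h₂ j (b₁ ≫ j'') sq₂.symm
  have O₁ := isPullback_torsor a₁ b₁ h₁ (𝟙 G₁) b₁ (Category.id_comp _)
  rw [Category.comp_id] at O₁
  let ψ : G₁ ⊗ N₂ ⟶ P := hP.lift (fst G₁ N₂ ≫ b₁) ((fst G₁ N₂ ≫ j) * (snd G₁ N₂ ≫ a₂))
    (by rw [Category.assoc]; exact O₂.w)
  let φ := fst G₁ N₁ * (snd G₁ N₁ ≫ a₁)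
  let u : G₁ ⟶ P := hP.lift b₁ j sq₂
  have R : IsPullback (fst G₁ N₂) ψ b₁ p := by
    refine IsPullback.of_bot ?_ (hP.lift_fst _ _ _).symm hP
    rwa [show ψ ≫ q = _ from hP.lift_snd _ _ _]
  refine ⟨ψ, φ, u, hP.lift_snd _ _ _, R, IsPullback.of_right ?_ ?_ R⟩
  · rw [whiskerLeft_fst, show u ≫ p = b₁ from hP.lift_fst _ _ _]
    exact O₁
  · refine hP.hom_ext ?_ ?_
    · rw [Category.assoc, Category.assoc, show ψ ≫ p = _ from hP.lift_fst _ _ _,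
        show u ≫ p = b₁ from hP.lift_fst _ _ _, whiskerLeft_fst_assoc, ← O₁.w]
    · rw [Category.assoc, Category.assoc, show ψ ≫ q = _ from hP.lift_snd _ _ _,
        show u ≫ q = j from hP.lift_snd _ _ _, MonObj.comp_mul, whiskerLeft_fst_assoc, whiskerLeft_snd_assoc,
        comp_hom_mul, Category.assoc, sq₁]

end Cat

theorem isClosedImmersion_of_extension {S : Scheme.{u}}
    {N₁ G₁ Q₁ N₂ G₂ Q₂ : Over S} [GrpObj N₂] [GrpObj G₁] [GrpObj Q₁] [GrpObj G₂] [GrpObj Q₂]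
    [IsSeparated Q₁.hom] [QuasiCompact G₁.hom]
    (a₁ : N₁ ⟶ G₁) (b₁ : G₁ ⟶ Q₁) (a₂ : N₂ ⟶ G₂) (b₂ : G₂ ⟶ Q₂) [IsMonHom b₁] [IsMonHom b₂]
    (h₁ : AlgGrp.IsKernel a₁ b₁) (hb₁ : Flat b₁.left ∧ Surjective b₁.left)
    (h₂ : AlgGrp.IsKernel a₂ b₂)
    (j' : N₁ ⟶ N₂) (j : G₁ ⟶ G₂) (j'' : Q₁ ⟶ Q₂) [IsMonHom j]
    (sq₁ : a₁ ≫ j = j' ≫ a₂) (sq₂ : b₁ ≫ j'' = j ≫ b₂)
    [IsClosedImmersion j'.left] [IsClosedImmersion j''.left] : IsClosedImmersion j.left := by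
  obtain ⟨ψ, φ, u, hu, R, L⟩ := isPullback_extension a₁ b₁ h₁ a₂ b₂ h₂ j' j j'' sq₁ sq₂
    (pullback.fst j'' b₂) (pullback.snd j'' b₂) (IsPullback.of_hasPullback j'' b₂)
  have hq : IsClosedImmersion (pullback.snd j'' b₂).left :=
    MorphismProperty.of_isPullback (IsPullback.of_hasPullback j'' b₂ |>.map (Over.forget S)) ‹IsClosedImmersion j''.left›
  have hpb : IsPullback (G₁ ◁ j') (snd G₁ N₁) (snd G₁ N₂) j' := by
    refine ⟨⟨by simp⟩, ⟨PullbackCone.IsLimit.mk _ (fun s => lift (s.fst ≫ fst G₁ N₂) s.snd)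
      (fun s => ?_) (fun s => by simp) (fun s m h1 h2 => ?_)⟩⟩
    · ext : 1
      · simp
      · simp [s.condition]
    · ext : 1
      · simp [← h1]
      · simp [← h2]
  have hw : IsClosedImmersion (G₁ ◁ j').left :=
    MorphismProperty.of_isPullback (hpb.map (Over.forget S)).flip ‹IsClosedImmersion j'.left›
  have : QuasiCompact (b₁.left ≫ Q₁.hom) := by rw [Over.w]; infer_instance
  have hb : Unr55.fpqc b₁.left := ⟨⟨hb₁.2, hb₁.1⟩, QuasiCompact.of_comp b₁.left Q₁.hom⟩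
  have hψ : Unr55.fpqc ψ.left := MorphismProperty.of_isPullback (R.map (Over.forget S)) hb
  have hdesc := Unr55.isClosedImmersion.{u}
  have : IsClosedImmersion u.left :=
    MorphismProperty.of_isPullback_of_descendsAlong (Q := Unr55.fpqc) (L.map (Over.forget S)) hψ hw
  rw [← hu, Over.comp_left]
  infer_instance

end Groth.Agent.GrpSch58
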