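import Mathlib.AlgebraicGeometry.Morphisms.SchemeTheoreticallyDominant
import Mathlib.AlgebraicGeometry.Morphisms.ClosedImmersion
import Mathlib.AlgebraicGeometry.ResidueField
import Mathlib.AlgebraicGeometry.AlgClosed.Basic
import Mathlib.RingTheory.DiscreteValuationRing.Basic
import Mathlib.RingTheory.Flat.TorsionFree

/-!
The affine hull of a flat scheme over a discrete valuation ring is schematically dominant on fibres.
-/

set_option autoImplicit false
universe u
open CategoryTheory CategoryTheory.Limits AlgebraicGeometry TopologicalSpace Opposite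

namespace Groth.Agent.GrpSch58

variable {X : Scheme.{u}} {A : CommRingCat.{u}}

theorem fromSpec_appTop' {W : X.Opens} (hW : IsAffineOpen W) :
    hW.fromSpec.appTop ≫ (Scheme.ΓSpecIso Γ(X, W)).hom = X.presheaf.map (homOfLE le_top).op := by
  rw [Scheme.Hom.appTop, hW.fromSpec_app_of_le ⊤ le_top]
  erw [CategoryTheory.Functor.map_id, Category.comp_id, Category.assoc, Iso.inv_hom_id, Category.comp_id]

/-- Divisibility by a nonzerodivisor with nonzerodivisor restrictions is local. -/
theorem exists_eq_mul_of_locally (a x : Γ(X, ⊤))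
    (hnzd : ∀ (W : X.affineOpens) (y : Γ(X, W.1)), X.presheaf.map (homOfLE le_top).op a * y = 0 → y = 0)
    (h : ∀ W : X.affineOpens, ∃ y : Γ(X, W.1), X.presheaf.map (homOfLE le_top).op x =
      X.presheaf.map (homOfLE le_top).op a * y) : ∃ y : Γ(X, ⊤), x = a * y := by
  have hres : ∀ {U V : X.Opens} (i : V ≤ U) (z : Γ(X, ⊤)),
      X.presheaf.map (homOfLE i).op (X.presheaf.map (homOfLE (le_top (a := U))).op z) =
        X.presheaf.map (homOfLE le_top).op z := fun i z => by
    rw [← ConcreteCategory.comp_apply, ← Functor.map_comp]; rfl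
  have huniq : ∀ (V : X.Opens) (y : Γ(X, V)), X.presheaf.map (homOfLE le_top).op a * y = 0 → y = 0 := by
    intro V y hy
    refine X.IsSheaf.section_ext fun p hp => ?_
    obtain ⟨_, ⟨W, hW, rfl⟩, hpW, hWV⟩ := X.isBasis_affineOpens.exists_subset_of_mem_open hp V.isOpen
    refine ⟨W, hWV, hpW, ?_⟩
    refine (hnzd ⟨W, hW⟩ _ ?_).trans (map_zero (X.presheaf.map _).hom).symm
    have := congrArg (X.presheaf.map (homOfLE (show W ≤ V from hWV)).op) hy
    rw [map_mul, map_zero, hres] at this
    exact this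
  choose y hy using h
  have hcompat : TopCat.Presheaf.IsCompatible X.sheaf.1 (fun W : X.affineOpens => W.1) y := by
    intro U V
    refine sub_eq_zero.1 (huniq (U.1 ⊓ V.1) _ ?_)
    show X.presheaf.map (homOfLE (le_top (a := U.1 ⊓ V.1))).op a *
      (X.presheaf.map (homOfLE inf_le_left).op (y U) - X.presheaf.map (homOfLE inf_le_right).op (y V)) = 0
    refine (mul_sub _ _ _).trans ?_
    have h1 := congrArg (X.presheaf.map (homOfLE (inf_le_left : U.1 ⊓ V.1 ≤ U.1)).op) (hy U)
    have h2 := congrArg (X.presheaf.map (homOfLE (inf_le_right : U.1 ⊓ V.1 ≤ V.1)).op) (hy V)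
    rw [map_mul, hres, hres] at h1 h2
    exact sub_eq_zero.2 (h1.symm.trans h2)
  obtain ⟨t, ht, -⟩ := X.sheaf.existsUnique_gluing' (fun W : X.affineOpens => W.1) ⊤ (fun W => homOfLE le_top)
    (fun p _ => by
      obtain ⟨_, ⟨W, hW, rfl⟩, hpW, -⟩ := X.isBasis_affineOpens.exists_subset_of_mem_open (Set.mem_univ p) isOpen_univ
      exact Opens.mem_iSup.2 ⟨⟨W, hW⟩, hpW⟩) y hcompat
  obtain ⟨t', rfl⟩ : ∃ t' : Γ(X, ⊤), t' = t := ⟨t, rfl⟩
  refine ⟨t', X.IsSheaf.section_ext fun p _ => ?_⟩
  obtain ⟨_, ⟨W, hW, rfl⟩, hpW, -⟩ := X.isBasis_affineOpens.exists_subset_of_mem_open (Set.mem_univ p) isOpen_univ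
  refine ⟨W, le_top, hpW, ?_⟩
  rw [map_mul]
  exact (hy ⟨W, hW⟩).trans (congrArg _ (ht ⟨W, hW⟩).symm)

theorem ker_eq_bot_of_comp_ker_le {Z P Y : Scheme.{u}} (m : Z ⟶ P) (j : P ⟶ Y) [IsClosedImmersion j]
    (h : (m ≫ j).ker ≤ j.ker) : m.ker = ⊥ := by
  have hk : (m.ker.subschemeι ≫ j).ker = j.ker := by
    rw [Scheme.Hom.ker_comp, Scheme.IdealSheafData.ker_subschemeι]
    exact ((Scheme.Hom.ker_comp m j).symm.le.trans h).antisymm
      ((Scheme.Hom.le_ker_comp m j).trans (Scheme.Hom.ker_comp m j).le)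
  have : IsIso (IsClosedImmersion.lift j (m.ker.subschemeι ≫ j) hk.ge) :=
    IsClosedImmersion.isIso_lift j (m.ker.subschemeι ≫ j) hk.symm
  have h2 : IsClosedImmersion.lift j (m.ker.subschemeι ≫ j) hk.ge = m.ker.subschemeι := by
    rw [← cancel_mono j]; simp
  rw [h2] at this
  exact (Scheme.isIso_subschemeι_iff_eq_bot _).1 this

theorem toSpecΓ_fibre_ker_eq_bot [IsDomain A] [IsDiscreteValuationRing A]
    (f : X ⟶ Spec A) [Flat f] [QuasiCompact f]
    (g : Spec Γ(X, ⊤) ⟶ Spec A) (hg : X.toSpecΓ ≫ g = f) (s : Spec A) :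
    (pullback.map f ((Spec A).fromSpecResidueField s) g ((Spec A).fromSpecResidueField s)
        X.toSpecΓ (𝟙 _) (𝟙 _) ((Category.comp_id f).trans hg.symm)
        ((Category.comp_id _).trans (Category.id_comp _).symm)).ker = ⊥ := by
  set ι := (Spec A).fromSpecResidueField s
  set m := pullback.map f ι g ι X.toSpecΓ (𝟙 _) (𝟙 _) ((Category.comp_id f).trans hg.symm)
    ((Category.comp_id _).trans (Category.id_comp _).symm)
  have : CompactSpace X := QuasiCompact.compactSpace_of_compactSpace f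
  obtain ⟨φ, hφ⟩ := Spec.map_surjective ι
  have hker : RingHom.ker φ.hom = s.asIdeal := by
    have h1 : ι (IsLocalRing.closedPoint _) = s := (Spec A).fromSpecResidueField_apply s _
    rw [← hφ] at h1
    refine Eq.trans ?_ (congrArg PrimeSpectrum.asIdeal h1)
    show _ = Ideal.comap φ.hom (IsLocalRing.maximalIdeal _)
    rw [IsLocalRing.maximalIdeal_eq_bot]
    rfl
  by_cases hs : s.asIdeal = ⊥
  · have : Flat ι := by
      rw [← hφ, HasRingHomProperty.Spec_iff (P := @Flat)]
      algebraize [φ.hom]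
      have hinj : Function.Injective φ.hom := (RingHom.injective_iff_ker_eq_bot _).2 (hker.trans hs)
      have : Module.IsTorsionFree A ((Spec A).residueField s) :=
        Module.isTorsionFree_iff_algebraMap_injective.2 hinj
      exact RingHom.flat_algebraMap_iff.2 (inferInstanceAs (Module.Flat A ((Spec A).residueField s)))
    have : IsSchemeTheoreticallyDominant X.toSpecΓ := ⟨X.ker_toSpecΓ⟩
    have hpb : IsPullback (pullback.fst f ι) m X.toSpecΓ (pullback.fst g ι) := by
      refine IsPullback.of_bot ?_ (pullback.lift_fst _ _ _).symm (IsPullback.of_hasPullback g ι).flip.flip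
      rw [hg]
      convert IsPullback.of_hasPullback f ι using 1
      simp only [m, pullback.lift_snd, Category.comp_id]
    exact (IsSchemeTheoreticallyDominant.of_isPullback hpb).ker_eq_bot
  · have hmax : s.asIdeal.IsMaximal := Ideal.IsPrime.isMaximal s.isPrime hs
    obtain ⟨π, hπ⟩ := IsDiscreteValuationRing.exists_irreducible A
    have hsπ : s.asIdeal = Ideal.span {π} := by
      rw [IsLocalRing.eq_maximalIdeal hmax, hπ.maximalIdeal_eq]
    have : IsClosedImmersion ι :=
      (isClosed_singleton_iff_isClosedImmersion (x := s)).1 ((PrimeSpectrum.isClosed_singleton_iff_isMaximal s).2 hmax)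
    have : IsClosedImmersion (Spec.map φ) := hφ ▸ this
    have hsurj : Function.Surjective φ.hom := by
      have e : φ = (Scheme.ΓSpecIso A).inv ≫ (Spec.map φ).appTop ≫ (Scheme.ΓSpecIso _).hom := by
        rw [← Scheme.ΓSpecIso_inv_naturality_assoc, Iso.inv_hom_id, Category.comp_id]
      rw [e]
      exact ((ConcreteCategory.bijective_of_isIso (Scheme.ΓSpecIso _).hom).2.comp
        ((Spec.map φ).app_surjective ⊤ (isAffineOpen_top _))).comp
        (ConcreteCategory.bijective_of_isIso (Scheme.ΓSpecIso A).inv).2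
    let a : Γ(X, ⊤) := f.appTop ((Scheme.ΓSpecIso A).inv π)
    have hιπ : ι.appTop ((Scheme.ΓSpecIso A).inv π) = 0 := by
      rw [← hφ, ← ConcreteCategory.comp_apply, ← Scheme.ΓSpecIso_inv_naturality, ConcreteCategory.comp_apply,
        show φ π = 0 from RingHom.mem_ker.1 (hker.ge (hsπ.ge (Ideal.mem_span_singleton_self π))), map_zero]
    refine ker_eq_bot_of_comp_ker_le m (pullback.fst g ι) (Scheme.IdealSheafData.le_of_isAffine ?_)
    intro z hz
    have hm : m ≫ pullback.fst g ι = pullback.fst f ι ≫ X.toSpecΓ := pullback.lift_fst _ _ _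
    have hzero : (pullback.fst f ι).appTop (X.toSpecΓ.appTop z) = 0 := by
      rw [← ConcreteCategory.comp_apply, ← Scheme.Hom.comp_appTop, ← hm]
      exact RingHom.mem_ker.1 (Scheme.Hom.ideal_ker_le _ _ hz)
    have hW : ∀ W : X.affineOpens, ∃ ψ : A ⟶ Γ(X, W.1), W.2.fromSpec ≫ f = Spec.map ψ ∧
        X.presheaf.map (homOfLE (le_top (a := W.1))).op a = ψ π ∧ ψ.hom.Flat := by
      intro W
      obtain ⟨ψ, hψ⟩ := Spec.map_surjective (W.2.fromSpec ≫ f)
      refine ⟨ψ, hψ.symm, ?_, ?_⟩
      · have h1 := congrArg (fun q : Spec Γ(X, W.1) ⟶ Spec A =>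
          (Scheme.ΓSpecIso A).inv ≫ q.appTop ≫ (Scheme.ΓSpecIso Γ(X, W.1)).hom) hψ
        simp only [← Scheme.ΓSpecIso_inv_naturality_assoc, Iso.inv_hom_id, Category.comp_id,
          Scheme.Hom.comp_appTop, Category.assoc] at h1
        rw [h1.trans ((Scheme.ΓSpecIso A).inv ≫= (f.appTop ≫= fromSpec_appTop' W.2))]
        rfl
      · rw [← HasRingHomProperty.Spec_iff (P := @Flat), hψ]
        have := W.2.isOpenImmersion_fromSpec
        have : Flat W.2.fromSpec := inferInstance
        exact MorphismProperty.comp_mem _ _ _ this ‹Flat f›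
    obtain ⟨y, hy⟩ : ∃ y, X.toSpecΓ.appTop z = a * y := by
      refine exists_eq_mul_of_locally a _ (fun W y hy => ?_) (fun W => ?_)
      · obtain ⟨ψ, -, hψπ, hflat⟩ := hW W
        rw [hψπ] at hy
        algebraize [ψ.hom]
        have := hflat
        have : Module.Flat A Γ(X, W.1) := RingHom.flat_algebraMap_iff.1 this
        have h2 : π • y = (0 : Γ(X, W.1)) := (Algebra.smul_def π y).trans hy
        exact (smul_eq_zero.1 h2).resolve_left hπ.ne_zero
      · obtain ⟨ψ, hψ, hψπ, -⟩ := hW W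
        let q : Γ(X, W.1) ⟶ CommRingCat.of (Γ(X, W.1) ⧸ Ideal.span {ψ π}) :=
          CommRingCat.ofHom (Ideal.Quotient.mk _)
        have hle : RingHom.ker φ.hom ≤ RingHom.ker (ψ ≫ q).hom := by
          rw [hker, hsπ, Ideal.span_le, Set.singleton_subset_iff]
          exact Ideal.Quotient.eq_zero_iff_mem.2 (Ideal.mem_span_singleton_self _)
        let θ : (Spec A).residueField s ⟶ CommRingCat.of (Γ(X, W.1) ⧸ Ideal.span {ψ π}) :=
          CommRingCat.ofHom (φ.hom.liftOfSurjective hsurj ⟨(ψ ≫ q).hom, hle⟩)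
        have hθ : φ ≫ θ = ψ ≫ q := CommRingCat.hom_ext (RingHom.liftOfRightInverse_comp _ _ _ _)
        have hl : (Spec.map q ≫ W.2.fromSpec) ≫ f = Spec.map θ ≫ ι := by
          rw [Category.assoc, hψ, ← Spec.map_comp, ← hθ, Spec.map_comp, hφ]
        have h2 : (Spec.map q ≫ W.2.fromSpec).appTop (X.toSpecΓ.appTop z) = 0 := by
          rw [← pullback.lift_fst _ _ hl, Scheme.Hom.comp_appTop, ConcreteCategory.comp_apply, hzero, map_zero]
        have h3 : q (X.presheaf.map (homOfLE (le_top (a := W.1))).op (X.toSpecΓ.appTop z)) = 0 := by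
          have h4 : W.2.fromSpec.appTop ≫ (Spec.map q).appTop =
              X.presheaf.map (homOfLE (le_top (a := W.1))).op ≫ q ≫ (Scheme.ΓSpecIso _).inv := by
            rw [← fromSpec_appTop' W.2, Category.assoc, Scheme.ΓSpecIso_inv_naturality, Iso.hom_inv_id_assoc]
          rw [Scheme.Hom.comp_appTop, h4, ConcreteCategory.comp_apply, ConcreteCategory.comp_apply] at h2
          exact (map_eq_zero_iff _ (ConcreteCategory.bijective_of_isIso (Scheme.ΓSpecIso _).inv).1).1 h2
        obtain ⟨b, hb⟩ := Ideal.mem_span_singleton'.1 (Ideal.Quotient.eq_zero_iff_mem.1 h3)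
        exact ⟨b, by rw [hψπ, mul_comm]; exact hb.symm⟩
    have : IsIso X.toSpecΓ.appTop := by rw [Scheme.toSpecΓ_appTop]; infer_instance
    obtain ⟨t, rfl⟩ := (ConcreteCategory.bijective_of_isIso X.toSpecΓ.appTop).2 y
    have hga : X.toSpecΓ.appTop (g.appTop ((Scheme.ΓSpecIso A).inv π)) = a := by
      rw [← ConcreteCategory.comp_apply, ← Scheme.Hom.comp_appTop, hg]
    rw [← hga, ← map_mul] at hy
    rw [(ConcreteCategory.bijective_of_isIso X.toSpecΓ.appTop).1 hy, Scheme.Hom.ker_apply]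
    refine RingHom.mem_ker.2 ?_
    rw [map_mul]
    refine mul_eq_zero_of_left ?_ _
    show ((g.appTop ≫ (pullback.fst g ι).appTop) ((Scheme.ΓSpecIso A).inv π)) = 0
    rw [← Scheme.Hom.comp_appTop, pullback.condition, Scheme.Hom.comp_appTop, ConcreteCategory.comp_apply, hιπ,
      map_zero]

end Groth.Agent.GrpSch58
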