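import Groth.Agent.Grpd80.QuotSheaf
import Groth.Agent.FlatMor66.FlatDescentSource
import Groth.Agent.GrpSch58.Extensions
import Groth.Agent.LimDesc62.Points

/-!
Faithfully flat homomorphisms and epimorphisms of fppf sheaves.
-/

set_option autoImplicit false
universe u
open CategoryTheory CategoryTheory.Limits MonoidalCategory CartesianMonoidalCategory MonObj AlgebraicGeometry Opposite
open Groth.Agent.SpFP87

namespace Groth.Agent.GrpSch58

variable {S : Scheme.{u}}

theorem epi_repMap_iff {G H : Over S} (f : G ⟶ H) :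
    Epi (QuotSh.repMap Scheme.fppfPrecoverage f) ↔ Epi ((AlgSp.yon S).map f) := by
  let iG := QuotSh.repIsoUliftYoneda Scheme.fppfPrecoverage G
  let iH := QuotSh.repIsoUliftYoneda Scheme.fppfPrecoverage H
  constructor
  · intro
    have e : (AlgSp.yon S).map f = iG.inv ≫ QuotSh.repMap Scheme.fppfPrecoverage f ≫ iH.hom := by
      rw [Iso.eq_inv_comp]; exact (Grpd80.repMap_comp_iso f).symm
    rw [e]
    infer_instance
  · intro
    have e : QuotSh.repMap Scheme.fppfPrecoverage f = iG.hom ≫ (AlgSp.yon S).map f ≫ iH.inv := by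
      rw [← Category.assoc, Iso.eq_comp_inv]; exact Grpd80.repMap_comp_iso f
    rw [e]
    infer_instance

/-- An epimorphism of representable fppf sheaves has local sections through flat charts. -/
theorem exists_flat_lift {G H : Over S} (f : G ⟶ H) [Epi ((AlgSp.yon S).map f)] (h : H.left) :
    ∃ (V : Over S) (c : V ⟶ H) (l : V ⟶ G) (v : V.left), Flat c.left ∧ c.left v = h ∧ l ≫ f = c := by
  have hs : Sheaf.IsLocallySurjective ((AlgSp.yon S).map f) := (Sheaf.isLocallySurjective_iff_epi _).2 inferInstance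
  have hR := hs.imageSieve_mem (U := op H |>.unop) (uE (𝟙 ((AlgSp.yon S).obj H)))
  rw [GrothendieckTopology.mem_over_iff] at hR
  have : (@Flat ⊓ @LocallyOfFinitePresentation :
      MorphismProperty Scheme.{u}).IsStableUnderBaseChange :=
    MorphismProperty.IsStableUnderBaseChange.inf
  have : MorphismProperty.IsMultiplicative
      (@Flat ⊓ @LocallyOfFinitePresentation : MorphismProperty Scheme.{u}) :=
    { id_mem := fun X => ⟨(inferInstance : Flat (𝟙 X)),
        (inferInstance : LocallyOfFinitePresentation (𝟙 X))⟩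
      comp_mem := fun f g ⟨_, _⟩ ⟨_, _⟩ => ⟨(inferInstance : Flat (f ≫ g)),
        (inferInstance : LocallyOfFinitePresentation (f ≫ g))⟩ }
  obtain ⟨𝒰, h𝒰⟩ := Scheme.exists_cover_of_mem_grothendieckTopology
    (P := @Flat ⊓ @LocallyOfFinitePresentation) hR
  obtain ⟨i, v, hv⟩ := 𝒰.exists_eq h
  let V : Over S := Over.mk (𝒰.f i ≫ H.hom)
  let c : V ⟶ H := Over.homMk (𝒰.f i) rfl
  have hm := h𝒰 _ _ (Presieve.ofArrows.mk i)
  obtain ⟨t, ht⟩ := (Sieve.overEquiv_iff _ _).1 hm
  obtain ⟨l, hl⟩ := (AlgSp.yon S).map_surjective ((uE (S := S)).symm t)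
  refine ⟨V, c, l, v, (𝒰.map_prop i).1, hv, (AlgSp.yon S).map_injective ((uE (S := S)).injective ?_)⟩
  rw [Functor.map_comp, hl, GrothendieckTopology.uliftYonedaEquiv_comp, Equiv.apply_symm_apply]
  refine ht.trans ?_
  rw [GrothendieckTopology.uliftYonedaEquiv_naturality, Category.comp_id]

theorem flat_surjective_iff_epi {G H N : Over S} [GrpObj G] [GrpObj H] (f : G ⟶ H) [IsMonHom f]
    [LocallyOfFinitePresentation G.hom] [LocallyOfFiniteType H.hom]
    (i : N ⟶ G) (hi : AlgGrp.IsKernel i f) :
    (Flat f.left ∧ Surjective f.left) ↔ (Epi (QuotSh.repMap Scheme.fppfPrecoverage f) ∧ Flat N.hom) := by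
  rw [epi_repMap_iff]
  constructor
  · intro ⟨hf, hs⟩
    refine ⟨LocLift.epi ?_, ?_⟩
    · have : LocallyOfFinitePresentation (f.left ≫ H.hom) := by rw [Over.w]; infer_instance
      have : LocallyOfFinitePresentation f.left := LimDesc62.lfp_of_comp _ H.hom
      intro T g
      obtain ⟨g, rfl⟩ := (AlgSp.yon S).map_surjective g
      refine ⟨_, pullback.fst g f, (AlgSp.yon S).map (pullback.snd g f),
        MorphismProperty.of_isPullback (P := fppfSurj)
          ((IsPullback.of_hasPullback g f).map (Over.forget S)).flip ((fppfSurj_iff _).2 ⟨hs, hf, this⟩), ?_⟩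
      rw [← Functor.map_comp, ← Functor.map_comp, pullback.condition]
    · have h1 := MorphismProperty.of_isPullback (P := @Flat) (hi.map (Over.forget S)) hf
      have e : (toUnit N).left = N.hom := by
        have := Over.w (toUnit N)
        simpa using this
      rw [← e]
      exact h1
  · intro ⟨_, hN⟩
    have hsurj : Surjective f.left := ⟨fun h => by
      obtain ⟨V, c, l, v, -, hv, hl⟩ := exists_flat_lift f h
      exact ⟨l.left v, by rw [← Scheme.Hom.comp_apply, ← Over.comp_left, hl, hv]⟩⟩
    refine ⟨Flat.of_stalkMap f.left fun x => ?_, hsurj⟩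
    obtain ⟨V, c, l, v, hc, hv, hl⟩ := exists_flat_lift f (f.left x)
    have sq := (isPullback_torsor i f hi l c hl).map (Over.forget S)
    let φ := ((fst V N ≫ l) * (snd V N ≫ i)).left
    have sq' : IsPullback (fst V N).left φ c.left f.left := sq
    have hφ : Flat φ := MorphismProperty.of_isPullback sq' hc
    obtain ⟨z, hz1, hz2⟩ := Scheme.Pullback.exists_preimage_pullback (f := c.left) (g := f.left) v x hv
    obtain ⟨p, hp⟩ : ∃ p, φ p = x := by
      refine ⟨sq'.isoPullback.inv z, ?_⟩
      rw [← hz2, ← Scheme.Hom.comp_apply]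
      exact congrArg (fun q : pullback c.left f.left ⟶ G.left => q z) sq'.isoPullback_inv_snd
    have hfst : Flat (fst V N).left := MorphismProperty.pullback_fst (P := @Flat) _ _ hN
    have hcomp : Flat (φ ≫ f.left) := by
      rw [← sq'.w]
      exact MorphismProperty.comp_mem _ _ _ hfst hc
    have h := Flat.stalkMap (φ ≫ f.left) p
    rw [Scheme.Hom.stalkMap_comp] at h
    subst hp
    exact FlatMor66.flat_of_comp_localHom _ (φ.stalkMap p).hom (Flat.stalkMap φ p) h

end Groth.Agent.GrpSch58
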