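import Groth.Agent.GrpSch58.CICrit
import Groth.Agent.Comod33.InfStructure

/-!
Algebra for: group schemes over a field are local complete intersections.
-/

set_option autoImplicit false

universe u

open IsLocalRing MvPolynomial TensorProduct

namespace Groth.Agent.GrpSch58

open Groth.Agent.RelGCI94

variable {k : Type u} [Field k]

theorem isCIOver_of_isGlobalCI_of_isLocalRing {A : Type u} [CommRing A] [Algebra k A] [IsLocalRing A]
    (h : Synt.IsGlobalCI k A) : Synt.IsCIOver k A := by
  have hu : ∀ y : (maximalIdeal A).primeCompl, IsUnit ((RingHom.id A) y) := fun y => not_not.1 y.2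
  let e : A ≃ₐ[A] Localization.AtPrime (maximalIdeal A) :=
    IsLocalization.atUnits A (maximalIdeal A).primeCompl (fun x hx => not_not.1 hx)
  exact isCIOver_congr (e.symm.restrictScalars k) (isCIOver_atPrime_of_isGlobalCI h (maximalIdeal A))

theorem isCIOver_of_finite_hopf [PerfectField k] (p : ℕ) [Fact p.Prime] [CharP k p] (A : Type u) [CommRing A]
    [HopfAlgebra k A] [Module.Finite k A] [IsLocalRing A] : Synt.IsCIOver k A := by
  obtain ⟨r, e, -, ⟨φ⟩⟩ := Comod33.Infinitesimal.exists_truncated (k := k) p _ A rfl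
  refine isCIOver_of_isGlobalCI_of_isLocalRing (Or.inr ⟨r, r, le_rfl,
    φ.symm.toAlgHom.comp (Ideal.Quotient.mkₐ k _), fun i => (X i) ^ (p ^ e i),
    φ.symm.surjective.comp Ideal.Quotient.mk_surjective, ?_, ?_⟩)
  · ext x
    show φ.symm (Ideal.Quotient.mk _ x) = 0 ↔ _
    rw [map_eq_zero_iff _ φ.symm.injective, Ideal.Quotient.eq_zero_iff_mem]
  · have : IsArtinianRing A := IsArtinianRing.of_finite k A
    rw [Nat.sub_self, Nat.cast_zero]
    exact ringKrullDimZero_iff_ringKrullDim_eq_zero.1 inferInstance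

theorem finite_of_nilpotent_augmentation {A : Type u} [CommRing A] [Algebra k A] [IsNoetherianRing A]
    (ε : A →ₐ[k] k) (h : ∀ a, ε a = 0 → IsNilpotent a) : Module.Finite k A := by
  classical
  let m : Ideal A := RingHom.ker ε
  obtain ⟨s, hs⟩ := m.fg_of_isNoetherianRing
  let S : Subalgebra k A := Algebra.adjoin k (s : Set A)
  have hint : ∀ a ∈ (s : Set A), IsIntegral k a := fun a ha => by
    obtain ⟨n, hn⟩ := h a (show a ∈ m from hs ▸ Ideal.subset_span ha)
    exact IsIntegral.of_pow (n := n + 1) n.succ_pos (by rw [pow_succ, hn, zero_mul]; exact isIntegral_zero)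
  have hfin : S.toSubmodule.FG := fg_adjoin_of_finite s.finite_toSet hint
  obtain ⟨N, hN⟩ : IsNilpotent m := by
    rw [Ideal.FG.isNilpotent_iff_le_nilradical m.fg_of_isNoetherianRing]
    exact fun a ha => h a ha
  have hj : ∀ j : ℕ, ∀ a, ∃ b ∈ S, a - b ∈ m ^ j := by
    intro j
    induction j with
    | zero => exact fun a => ⟨0, zero_mem _, by simp⟩
    | succ j ih =>
      intro a
      have hm : a - algebraMap k A (ε a) ∈ m := by
        show ε _ = 0
        simp
      rw [← hs, Ideal.span, Submodule.mem_span_finset] at hm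
      obtain ⟨c, -, hc⟩ := hm
      choose b hb hcb using fun x => ih (c x)
      refine ⟨algebraMap k A (ε a) + ∑ x ∈ s, b x * x,
        add_mem (S.algebraMap_mem _) (sum_mem fun x hx => mul_mem (hb x) (Algebra.subset_adjoin hx)), ?_⟩
      rw [← sub_sub, ← hc, ← Finset.sum_sub_distrib, pow_succ]
      refine sum_mem fun x hx => ?_
      rw [smul_eq_mul, ← sub_mul]
      exact Ideal.mul_mem_mul (hcb x) (hs ▸ Ideal.subset_span hx)
  refine Module.Finite.of_fg_top ?_
  rwa [show (⊤ : Submodule k A) = S.toSubmodule from (eq_top_iff.2 fun a _ => ?_).symm]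
  obtain ⟨b, hb, hab⟩ := hj N a
  rw [hN, Ideal.zero_eq_bot, Ideal.mem_bot, sub_eq_zero] at hab
  exact hab ▸ hb

/-- A local ring is a complete intersection once its deep `m`-primary quotients are. -/
theorem isCIOver_of_quotients {R : Type u} [CommRing R] [IsLocalRing R] [IsNoetherianRing R] [Algebra k R]
    [Algebra.EssFiniteType k R]
    (h : ∀ N : ℕ, ∃ I : Ideal R, I ≤ maximalIdeal R ^ N ∧ ringKrullDim (R ⧸ I) ≤ 0 ∧
      ∃ (_ : IsLocalRing (R ⧸ I)), Synt.IsCIOver k (R ⧸ I)) :
    Synt.IsCIOver k R := by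
  classical
  let σ := Algebra.EssFiniteType.finset k R
  let φ : MvPolynomial (↥σ) k →ₐ[k] R := MvPolynomial.aeval fun s => (s : R)
  obtain ⟨π, hπ, -⟩ := exists_surjective_localization (R := R) φ fun s hs => ⟨X ⟨s, hs⟩, aeval_X _ _⟩
  let L := Localization.AtPrime ((maximalIdeal R).comap φ)
  have : Algebra.EssFiniteType (MvPolynomial (↥σ) k) L :=
    Algebra.EssFiniteType.of_isLocalization L ((maximalIdeal R).comap φ).primeCompl
  have : Algebra.EssFiniteType k L := Algebra.EssFiniteType.comp k (MvPolynomial (↥σ) k) L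
  refine isCIOver_of_countCI π hπ (countCI_of_quotients _ (RingHom.ker_ne_top π.toRingHom) fun N => ?_)
  obtain ⟨I, hI, hdim, hloc, hCI⟩ := h N
  let J : Ideal L := RingHom.ker π
  let I₀ : Ideal L := I.comap π ⊓ maximalIdeal L ^ N
  have hmax : (maximalIdeal L).map π = maximalIdeal R := by
    refine le_antisymm (Ideal.map_le_iff_le_comap.2 fun x hx => ?_) ?_
    · have : IsLocalHom π.toRingHom := IsLocalHom.of_surjective _ hπ
      exact fun hu => hx (this.map_nonunit x hu)
    · intro r hr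
      obtain ⟨x, rfl⟩ := hπ r
      exact Ideal.mem_map_of_mem _ fun hu => hr (hu.map π)
  have hsup : J ⊔ I₀ = I.comap π := by
    refine le_antisymm (sup_le (fun x hx => ?_) inf_le_left) fun x hx => ?_
    · show π x ∈ I
      rw [show π x = 0 from hx]
      exact zero_mem _
    · have hx' : π x ∈ (maximalIdeal L ^ N).map π := by
        rw [Ideal.map_pow, hmax]; exact hI hx
      obtain ⟨y, hy, hxy⟩ := (Ideal.mem_map_iff_of_surjective π hπ).1 hx'
      have hxy' : x - y ∈ J := by
        show π (x - y) = 0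
        rw [map_sub, hxy, sub_self]
      rw [← sub_add_cancel x y]
      exact add_mem (Ideal.mem_sup_left hxy')
        (Ideal.mem_sup_right ⟨by show π y ∈ I; rw [hxy]; exact hx, hy⟩)
  let π' : L →ₐ[k] R ⧸ I := (Ideal.Quotient.mkₐ k I).comp π
  have hπ' : Function.Surjective π' := Ideal.Quotient.mk_surjective.comp hπ
  have hker : RingHom.ker π' = J ⊔ I₀ := by
    rw [hsup]
    ext x
    exact Ideal.Quotient.eq_zero_iff_mem
  refine ⟨I₀, inf_le_right, ?_, ?_⟩
  · show CountCI (J ⊔ I₀)
    rw [← hker, ← isCIOver_iff π' hπ']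
    exact hCI
  · show ringKrullDim (L ⧸ (J ⊔ I₀)) ≤ 0
    rw [← hker, ringKrullDim_eq_of_ringEquiv (RingHom.quotientKerEquivOfSurjective (f := π'.toRingHom) hπ')]
    exact hdim

/-- Being a complete intersection descends along extensions of the ground field. -/
theorem isCIOver_of_baseChange {S : Type u} [CommRing S] [Algebra k S] [Algebra.FiniteType k S]
    (K : Type u) [Field K] [Algebra k K] (q' : Ideal (K ⊗[k] S)) [q'.IsPrime] (q : Ideal S) [q.IsPrime]
    (hq : q'.comap (Algebra.TensorProduct.includeRight.toRingHom : S →+* K ⊗[k] S) = q)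
    (h : Synt.IsCIOver K (Localization.AtPrime q')) : Synt.IsCIOver k (Localization.AtPrime q) := by
  subst hq
  obtain ⟨n, π, hπ⟩ := Algebra.FiniteType.iff_quotient_mvPolynomial''.1 ‹Algebra.FiniteType k S›
  let I : Ideal (MvPolynomial (Fin n) k) := RingHom.ker π.toRingHom
  let eS : (MvPolynomial (Fin n) k ⧸ I) ≃ₐ[k] S := Ideal.quotientKerAlgEquivOfSurjective hπ
  let Φ := MvPolynomial.map (σ := Fin n) (algebraMap k K)
  let eK : K ⊗[k] (MvPolynomial (Fin n) k ⧸ I) ≃ₐ[K] MvPolynomial (Fin n) K ⧸ I.map Φ :=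
    (Algebra.TensorProduct.tensorQuotientEquiv (R := k) K (MvPolynomial (Fin n) k) K I).trans
      (Ideal.quotientEquivAlg _ _ (algebraTensorAlgEquiv (σ := Fin n) k K) (by
        rw [← Ideal.span_eq I, Ideal.map_span, Ideal.map_span, Ideal.map_span, ← Set.image_comp]
        exact congrArg Ideal.span (Set.image_congr fun y _ => by simp [Φ])))
  have heK : ∀ y, eK ((1 : K) ⊗ₜ[k] Ideal.Quotient.mk I y) = Ideal.Quotient.mk _ (Φ y) := fun y => by
    simp [eK, Φ]
  let e' : (K ⊗[k] S) ≃ₐ[K] MvPolynomial (Fin n) K ⧸ I.map Φ :=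
    (Algebra.TensorProduct.congr (AlgEquiv.refl : K ≃ₐ[K] K) eS).symm.trans eK
  let q₁ : Ideal (MvPolynomial (Fin n) K ⧸ I.map Φ) := q'.comap e'.symm.toAlgHom
  let q₀ : Ideal (MvPolynomial (Fin n) k ⧸ I) :=
    (q'.comap (Algebra.TensorProduct.includeRight.toRingHom : S →+* K ⊗[k] S)).comap eS.toAlgHom
  have : q₁.IsPrime := Ideal.IsPrime.comap _
  have : q₀.IsPrime := Ideal.IsPrime.comap _
  let ε₁ : Localization.AtPrime q₁ ≃ₐ[K] Localization.AtPrime q' := Localization.localAlgEquiv q₁ q' e'.symm rfl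
  let ε₀ : Localization.AtPrime q₀ ≃ₐ[k] Localization.AtPrime
      (q'.comap (Algebra.TensorProduct.includeRight.toRingHom : S →+* K ⊗[k] S)) :=
    Localization.localAlgEquiv q₀ _ eS rfl
  have h1 := (isCIOver_atPrime_iff (I.map Φ) q₁).1 (isCIOver_congr ε₁.symm h)
  refine isCIOver_congr ε₀ ((isCIOver_atPrime_iff I q₀).2 ?_)
  let P₁ := q₁.comap (Ideal.Quotient.mk (I.map Φ))
  let P₀ := q₀.comap (Ideal.Quotient.mk I)
  have hP : P₀ = P₁.comap Φ := by
    ext y
    show (1 : K) ⊗ₜ[k] eS (Ideal.Quotient.mk I y) ∈ q' ↔ e'.symm (Ideal.Quotient.mk _ (Φ y)) ∈ q'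
    rw [← heK]
    simp [e']
  letI : Algebra (Localization.AtPrime P₀) (Localization.AtPrime P₁) :=
    (Localization.localRingHom P₀ P₁ Φ hP).toAlgebra
  have : Module.Flat (Localization.AtPrime P₀) (Localization.AtPrime P₁) := by
    have hΦ : Φ.Flat := by
      letI := MvPolynomial.algebraMvPolynomial (σ := Fin n) (R := k) (S := K)
      show (algebraMap (MvPolynomial (Fin n) k) (MvPolynomial (Fin n) K)).Flat
      exact RingHom.flat_algebraMap_iff.2 (Module.Flat.isBaseChange k (MvPolynomial (Fin n) k) K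
        (MvPolynomial (Fin n) K) (Algebra.IsPushout.out (R := k) (S := MvPolynomial (Fin n) k)))
    exact RingHom.Flat.localRingHom hΦ P₁ P₀ hP
  have : IsLocalHom (algebraMap (Localization.AtPrime P₀) (Localization.AtPrime P₁)) :=
    inferInstanceAs (IsLocalHom (Localization.localRingHom P₀ P₁ Φ hP))
  have hIne : I.map (algebraMap _ (Localization.AtPrime P₀)) ≠ ⊤ := fun h => by
    refine (maximalIdeal.isMaximal (Localization.AtPrime P₀)).ne_top (top_le_iff.1 (h ▸ Ideal.map_le_iff_le_comap.2 ?_))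
    intro y hy
    refine (IsLocalization.AtPrime.to_map_mem_maximal_iff _ P₀ _).2 ?_
    show Ideal.Quotient.mk I y ∈ q₀
    rw [Ideal.Quotient.eq_zero_iff_mem.2 hy]
    exact zero_mem _
  rw [← countCI_map_iff (S := Localization.AtPrime P₁) _ hIne, Ideal.map_map]
  have e2 : (algebraMap (Localization.AtPrime P₀) (Localization.AtPrime P₁)).comp (algebraMap _ (Localization.AtPrime P₀)) =
      (algebraMap _ (Localization.AtPrime P₁)).comp Φ :=
    RingHom.ext fun y => Localization.localRingHom_to_map P₀ P₁ Φ hP y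
  rw [e2, ← Ideal.map_map]
  exact h1

end Groth.Agent.GrpSch58
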