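import Groth.Agent.GrpSch58.InfNbhd
import Groth.Agent.GrpSch58.LciAlg
import Groth.Agent.RelGCI94.SyntProperty
import Groth.Agent.RelGCI94.SmoothSyn
import Groth.Agent.Cartier57.Reduced
import Groth.Agent.S9699
import Groth.Agent.S9365
import Groth.Agent.S9145

/-!
Group schemes locally of finite type over a field are local complete intersections.
-/

set_option autoImplicit false

universe u

open CategoryTheory CategoryTheory.Limits MonoidalCategory CartesianMonoidalCategory MonObj GrpObj AlgebraicGeometry
open IsLocalRing TensorProduct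

noncomputable section

namespace Groth.Agent.GrpSch58

variable {k : Type u} [Field k]

theorem isSyntomic_of_isLCIOver {A : Type u} [CommRing A] [Algebra k A] (h : Synt.IsLCIOver k A) :
    Synt.IsSyntomic k A :=
  RelGCI94.isSyntomic_of_local fun P => by
    obtain ⟨a, ha, hG⟩ := h.2 P
    obtain ⟨n, c, F, hF, ⟨e⟩⟩ := RelGCI94.isGlobalCI_iff.1 hG
    exact ⟨a, ha, RelGCI94.isSyntomic_away_of_relGCI a F hF e⟩

/-- Stalks at corresponding points of a local isomorphism over the field. -/
theorem exists_stalk_algEquiv {X Y : Over (Spec (CommRingCat.of k))} (f : X ⟶ Y) [IsOpenImmersion f.left]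
    (x : X.left) (y : Y.left) (h : f.left x = y) :
    letI := stalkAlg X x
    letI := stalkAlg Y y
    Nonempty (Y.left.presheaf.stalk y ≃ₐ[k] X.left.presheaf.stalk x) := by
  subst h
  letI := stalkAlg X x
  letI := stalkAlg Y (f.left x)
  refine ⟨AlgEquiv.ofRingEquiv (f := (asIso (f.left.stalkMap x)).commRingCatIsoToRingEquiv) fun c => ?_⟩
  have : CommRingCat.ofHom (algebraMap k (Y.left.presheaf.stalk (f.left x))) ≫ f.left.stalkMap x =
      CommRingCat.ofHom (algebraMap k (X.left.presheaf.stalk x)) := Spec.map_injective (by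
    rw [Spec.map_comp, SpecMap_algebraMap_stalk, SpecMap_algebraMap_stalk,
      Scheme.SpecMap_stalkMap_fromSpecStalk_assoc, Over.w f])
  exact congrArg (fun φ => φ.hom c) this

/-- The stalk of a spectrum. -/
theorem exists_stalk_algEquiv_localization (S : Type u) [CommRing S] [Algebra k S] (m : Spec (CommRingCat.of S)) :
    letI := stalkAlg (Over.mk (Spec.map (CommRingCat.ofHom (algebraMap k S)))) m
    Nonempty (Localization.AtPrime m.asIdeal ≃ₐ[k]
      (Over.mk (Spec.map (CommRingCat.ofHom (algebraMap k S)))).left.presheaf.stalk m) := by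
  let X := Over.mk (Spec.map (CommRingCat.ofHom (algebraMap k S)))
  letI := stalkAlg X m
  let e := (StructureSheaf.stalkIso S m).toRingEquiv
  refine ⟨AlgEquiv.ofRingEquiv (f := (e : Localization.AtPrime m.asIdeal ≃+* (Spec (CommRingCat.of S)).presheaf.stalk m))
    fun c => ?_⟩
  have h1 : CommRingCat.ofHom (algebraMap k (X.left.presheaf.stalk m)) =
      CommRingCat.ofHom (algebraMap k S) ≫ StructureSheaf.toStalk S m := Spec.map_injective (by
    refine (SpecMap_algebraMap_stalk X m).trans ?_
    show (Spec (CommRingCat.of S)).fromSpecStalk m ≫ Spec.map (CommRingCat.ofHom (algebraMap k S)) = _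
    rw [Spec.fromSpecStalk_eq']
    exact (Spec.map_comp _ _).symm)
  rw [IsScalarTower.algebraMap_apply k S (Localization.AtPrime m.asIdeal)]
  refine ((StructureSheaf.stalkIso S m).commutes _).trans ?_
  exact (congrArg (fun φ => φ.hom c) h1).symm

theorem exists_chart (G : Over (Spec (CommRingCat.of k))) [LocallyOfFiniteType G.hom] (x : G.left) :
    ∃ (S : Type u) (_ : CommRing S) (_ : Algebra k S) (_ : Algebra.FiniteType k S)
      (j : Over.mk (Spec.map (CommRingCat.ofHom (algebraMap k S))) ⟶ G),
        IsOpenImmersion j.left ∧ x ∈ Set.range j.left := by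
  let i := G.left.affineCover.idx x
  let f : Spec _ ⟶ G.left := G.left.affineCover.f i
  have hopen : IsOpenImmersion f := G.left.affineCover.map_prop i
  obtain ⟨φ, hφ⟩ := Spec.map_surjective (f ≫ G.hom)
  have hft : φ.hom.FiniteType := by
    have : LocallyOfFiniteType (Spec.map φ) := by rw [hφ]; exact MorphismProperty.comp_mem @LocallyOfFiniteType f G.hom inferInstance ‹_›
    exact (HasRingHomProperty.Spec_iff (P := @LocallyOfFiniteType)).1 this
  algebraize [φ.hom]
  exact ⟨_, inferInstance, φ.hom.toAlgebra, hft, Over.homMk f hφ.symm, inferInstanceAs (IsOpenImmersion f),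
    G.left.affineCover.covers x⟩

theorem essFiniteType_stalk (G : Over (Spec (CommRingCat.of k))) [LocallyOfFiniteType G.hom] (x : G.left) :
    letI := stalkAlg G x
    Algebra.EssFiniteType k (G.left.presheaf.stalk x) := by
  obtain ⟨S, _, _, _, j, hj, m, hm⟩ := exists_chart G x
  letI := stalkAlg G x
  letI := stalkAlg (Over.mk (Spec.map (CommRingCat.ofHom (algebraMap k S)))) m
  obtain ⟨e⟩ := exists_stalk_algEquiv j m x hm
  obtain ⟨e'⟩ := exists_stalk_algEquiv_localization (k := k) S m
  have : Algebra.EssFiniteType S (Localization.AtPrime m.asIdeal) :=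
    Algebra.EssFiniteType.of_isLocalization _ m.asIdeal.primeCompl
  have : Algebra.EssFiniteType k (Localization.AtPrime m.asIdeal) := Algebra.EssFiniteType.comp k S _
  exact Algebra.EssFiniteType.of_surjective (e'.trans e.symm).toAlgHom (e'.trans e.symm).surjective

section AlgClosed

variable [IsAlgClosed k] (G : Over (Spec (CommRingCat.of k))) [GrpObj G] [LocallyOfFiniteType G.hom]
  (p : ℕ) [Fact p.Prime] [CharP k p]

include p in
theorem isCIOver_stalk_unit :
    letI := stalkAlg G (unitPoint G)
    Synt.IsCIOver k (G.left.presheaf.stalk (unitPoint G)) := by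
  letI := stalkAlg G (unitPoint G)
  let R := G.left.presheaf.stalk (unitPoint G)
  have := essFiniteType_stalk G (unitPoint G)
  have : IsLocallyNoetherian G.left := LocallyOfFiniteType.isLocallyNoetherian G.hom
  have : IsNoetherianRing R := inferInstance
  obtain ⟨ε, hε⟩ := exists_counit G
  refine isCIOver_of_quotients fun N => ?_
  let n := N + 1
  let I : Ideal R := Ideal.span ((fun r => r ^ (p ^ n)) '' (maximalIdeal R : Set R))
  have hq : n ≤ p ^ n := (Nat.lt_pow_self (Fact.out : p.Prime).one_lt).le
  have hIN : I ≤ maximalIdeal R ^ N := Ideal.span_le.2 (by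
    rintro _ ⟨r, hr, rfl⟩
    exact Ideal.pow_le_pow_right ((Nat.le_succ N).trans hq) (Ideal.pow_mem_pow hr _))
  obtain ⟨A', _, _, ⟨e⟩⟩ := exists_hopfAlgebra G p n I rfl
  have hne : I ≠ ⊤ := fun h => by
    have h1 : I ≤ maximalIdeal R := Ideal.span_le.2 (by
      rintro _ ⟨r, hr, rfl⟩
      exact Ideal.pow_mem_of_mem _ hr _ (pow_pos (Fact.out : p.Prime).pos _))
    exact (maximalIdeal.isMaximal R).ne_top (top_le_iff.1 (h ▸ h1))
  have : Nontrivial (R ⧸ I) := Ideal.Quotient.nontrivial_iff.2 hne
  have : IsLocalRing (R ⧸ I) := IsLocalRing.of_surjective' (Ideal.Quotient.mk I) Ideal.Quotient.mk_surjective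
  have hεI : ∀ r ∈ I, ε r = 0 := fun r hr => by
    refine (Ideal.span_le.2 ?_ : I ≤ RingHom.ker ε) hr
    rintro _ ⟨s, hs, rfl⟩
    show ε (s ^ (p ^ n)) = 0
    rw [map_pow, show ε s = 0 from by_contra fun h => hs (hε.map_nonunit s (IsUnit.mk0 _ h)),
      zero_pow (pow_ne_zero _ (Fact.out : p.Prime).ne_zero)]
  have hnil : ∀ a, Ideal.Quotient.liftₐ I ε hεI a = 0 → IsNilpotent a := fun a ha => by
    obtain ⟨r, rfl⟩ := Ideal.Quotient.mk_surjective a
    refine ⟨p ^ n, ?_⟩
    rw [← map_pow]
    exact Ideal.Quotient.eq_zero_iff_mem.2 (Ideal.subset_span ⟨r, fun hu => (hu.map ε).ne_zero ha, rfl⟩)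
  have : Module.Finite k (R ⧸ I) := finite_of_nilpotent_augmentation _ hnil
  have : IsArtinianRing (R ⧸ I) := IsArtinianRing.of_finite k _
  refine ⟨I, hIN, (ringKrullDimZero_iff_ringKrullDim_eq_zero.1 inferInstance).le, inferInstance, ?_⟩
  have : Module.Finite k A' := Module.Finite.equiv e.toLinearEquiv
  have : IsLocalRing A' := e.toRingEquiv.isLocalRing
  exact RelGCI94.isCIOver_congr e.symm (isCIOver_of_finite_hopf p A')

include p in
theorem isCIOver_stalk {x : G.left} (hx : IsClosed ({x} : Set G.left)) :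
    letI := stalkAlg G x
    Synt.IsCIOver k (G.left.presheaf.stalk x) := by
  obtain ⟨g, hg⟩ := exists_of_isClosed (X := G) hx
  let τ : G ≅ G := GrpObj.mulRight g
  have : IsIso τ.hom.left := ((Over.forget _).mapIso τ).isIso_hom
  have hτ : τ.hom.left (unitPoint G) = x := by
    rw [← hg]
    show τ.hom.left (η[G].left _) = pt g
    rw [← Scheme.Hom.comp_apply, ← Over.comp_left]
    refine congrArg (fun f : 𝟙_ (Over (Spec (CommRingCat.of k))) ⟶ G => f.left (closedPoint k)) (a₂ := g) ?_
    rw [show τ.hom = (𝟙 G) * (toUnit G ≫ g) by simp [τ, Hom.mul_def], MonObj.comp_mul, Category.comp_id,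
      one_eq_one, _root_.one_mul, ← Category.assoc,
      toUnit_unique ((1 : 𝟙_ (Over (Spec (CommRingCat.of k))) ⟶ G) ≫ toUnit G) (𝟙 _), Category.id_comp]
  letI := stalkAlg G x
  letI := stalkAlg G (unitPoint G)
  obtain ⟨e⟩ := exists_stalk_algEquiv τ.hom (unitPoint G) x hτ
  exact RelGCI94.isCIOver_congr e.symm (isCIOver_stalk_unit G p)

include p in
theorem isCIOver_localization_chart {S : Type u} [CommRing S] [Algebra k S] [Algebra.FiniteType k S]
    (j : Over.mk (Spec.map (CommRingCat.ofHom (algebraMap k S))) ⟶ G) [IsOpenImmersion j.left]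
    (m : Ideal S) [m.IsMaximal] : Synt.IsCIOver k (Localization.AtPrime m) := by
  let X := Over.mk (Spec.map (CommRingCat.ofHom (algebraMap k S)))
  let x : X.left := (⟨m, inferInstance⟩ : PrimeSpectrum S)
  have : JacobsonSpace G.left := LocallyOfFiniteType.jacobsonSpace G.hom
  have hx : IsClosed ({x} : Set X.left) := (PrimeSpectrum.isClosed_singleton_iff_isMaximal _).2 ‹m.IsMaximal›
  have hclosed : IsClosed ({j.left x} : Set G.left) := by
    rw [← Set.image_singleton]
    have hlc : IsLocallyClosed (j.left '' {x}) := hx.isLocallyClosed.image j.left.isOpenEmbedding.isInducing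
      j.left.isOpenEmbedding.isOpen_range.isLocallyClosed
    rw [Set.image_singleton] at hlc ⊢
    obtain ⟨z, hz, hzc⟩ := nonempty_inter_closedPoints (X := G.left) (Set.singleton_nonempty _) hlc
    obtain rfl : z = j.left x := hz
    exact hzc
  letI := stalkAlg G (j.left x)
  letI := stalkAlg X x
  obtain ⟨e⟩ := exists_stalk_algEquiv j x (j.left x) rfl
  obtain ⟨e'⟩ := exists_stalk_algEquiv_localization (k := k) S x
  exact RelGCI94.isCIOver_congr (e.trans e'.symm) (isCIOver_stalk G p hclosed)

end AlgClosed

theorem isLCIOver_chart (p : ℕ) [Fact p.Prime] [CharP k p] (G : Over (Spec (CommRingCat.of k))) [GrpObj G]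
    [LocallyOfFiniteType G.hom] {S : Type u} [CommRing S] [Algebra k S] [Algebra.FiniteType k S]
    (j : Over.mk (Spec.map (CommRingCat.ofHom (algebraMap k S))) ⟶ G) [IsOpenImmersion j.left] :
    Synt.IsLCIOver k S := by
  refine (Groth.Agent.S9145.result k S).2.2 fun m => ?_
  let K : Type u := AlgebraicClosure k
  have : CharP K p := charP_of_injective_algebraMap (algebraMap k K).injective p
  let g : Spec (CommRingCat.of K) ⟶ Spec (CommRingCat.of k) := Spec.map (CommRingCat.ofHom (algebraMap k K))
  let : GrpObj (Over.mk G.hom) := ‹GrpObj G›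
  let G' : Over (Spec (CommRingCat.of K)) := Over.mk (pullback.snd G.hom g)
  let : GrpObj G' := Over.grpObjMkPullbackSnd
  have : LocallyOfFiniteType G'.hom := MorphismProperty.pullback_snd (P := @LocallyOfFiniteType) _ _ ‹_›
  let incl : S →+* K ⊗[k] S := Algebra.TensorProduct.includeRight.toRingHom
  let sS : Spec (CommRingCat.of S) ⟶ Spec (CommRingCat.of k) := Spec.map (CommRingCat.ofHom (algebraMap k S))
  let j' : Spec (CommRingCat.of (K ⊗[k] S)) ⟶ G'.left :=
    pullback.lift (Spec.map (CommRingCat.ofHom incl) ≫ j.left) (Spec.map (CommRingCat.ofHom (algebraMap K (K ⊗[k] S)))) (by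
      rw [Category.assoc, Over.w j]
      show Spec.map _ ≫ Spec.map _ = Spec.map _ ≫ Spec.map _
      rw [← Spec.map_comp, ← Spec.map_comp]
      congr 1
      ext x
      simp [incl])
  have hpb : IsPullback (Spec.map (CommRingCat.ofHom incl)) j' j.left (pullback.fst G.hom g) := by
    refine IsPullback.of_bot ?_ (pullback.lift_fst _ _ _).symm (IsPullback.of_hasPullback G.hom g)
    rw [pullback.lift_snd, Over.w j]
    exact (isPullback_SpecMap_of_isPushout _ _ _ _ (CommRingCat.isPushout_tensorProduct k K S)).flip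
  have : IsOpenImmersion j' := MorphismProperty.of_isPullback (P := @IsOpenImmersion) hpb inferInstance
  have : Algebra.FiniteType K (K ⊗[k] S) := inferInstance
  have hinj : Function.Injective incl := Algebra.TensorProduct.includeRight_injective (algebraMap k K).injective
  have hint : incl.IsIntegral := by
    have h1 : (algebraMap S (S ⊗[k] K)).IsIntegral := fun x => Algebra.IsIntegral.isIntegral x
    have h2 := h1.trans _ (Algebra.TensorProduct.comm k S K).toRingEquiv.toRingHom
      (RingHom.isIntegral_of_surjective _ (Algebra.TensorProduct.comm k S K).surjective)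
    rwa [show (Algebra.TensorProduct.comm k S K).toRingEquiv.toRingHom.comp (algebraMap S (S ⊗[k] K)) = incl from
      RingHom.ext fun x => by simp [incl, Algebra.TensorProduct.algebraMap_apply]] at h2
  obtain ⟨q, hq, hqm⟩ : ∃ q : Ideal (K ⊗[k] S), q.IsMaximal ∧ q.comap incl = m.asIdeal := by
    algebraize [incl]
    have : FaithfulSMul S (K ⊗[k] S) := (faithfulSMul_iff_algebraMap_injective S (K ⊗[k] S)).2 hinj
    obtain ⟨q, hq, hqm⟩ := Ideal.exists_maximal_ideal_liesOver_of_isIntegral (S := K ⊗[k] S) m.asIdeal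
    exact ⟨q, hq, hqm.over.symm⟩
  let j'' : Over.mk (Spec.map (CommRingCat.ofHom (algebraMap K (K ⊗[k] S)))) ⟶ G' :=
    Over.homMk j' (pullback.lift_snd _ _ _)
  have : IsOpenImmersion j''.left := ‹IsOpenImmersion j'›
  exact isCIOver_of_baseChange K q m.asIdeal hqm (isCIOver_localization_chart (k := K) G' p j'' q)

/-- A group scheme locally of finite type over a field is syntomic. -/
theorem isSyntomicMor_of_field (G : Over (Spec (CommRingCat.of k))) [GrpObj G] [LocallyOfFiniteType G.hom] :
    Synt.IsSyntomicMor G.hom := by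
  obtain ⟨p, hp⟩ := CharP.exists k
  rcases CharP.char_is_prime_or_zero k p with hprime | rfl
  · have : Fact p.Prime := ⟨hprime⟩
    rw [RelGCI94.isSyntomicMor_iff]
    rw [IsZariskiLocalAtSource.iff_of_openCover (P := RelGCI94.syntomicProp.{u}) G.left.affineCover]
    intro i
    let f : Spec _ ⟶ G.left := G.left.affineCover.f i
    have hopen : IsOpenImmersion f := G.left.affineCover.map_prop i
    obtain ⟨φ, hφ⟩ := Spec.map_surjective (f ≫ G.hom)
    show RelGCI94.syntomicProp (f ≫ G.hom)
    rw [← hφ, HasRingHomProperty.Spec_iff (P := RelGCI94.syntomicProp.{u})]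
    have hft : φ.hom.FiniteType := by
      have : LocallyOfFiniteType (Spec.map φ) := by rw [hφ]; exact MorphismProperty.comp_mem @LocallyOfFiniteType f G.hom inferInstance ‹_›
      exact (HasRingHomProperty.Spec_iff (P := @LocallyOfFiniteType)).1 this
    algebraize [φ.hom]
    refine (RelGCI94.syntomicHom_algebraMap).2 (isSyntomic_of_isLCIOver ?_)
    exact @isLCIOver_chart k _ p _ _ G _ _ _ _ φ.hom.toAlgebra hft
      (Over.homMk f hφ.symm : Over.mk (Spec.map φ) ⟶ G) hopen
  · have : CharZero k := CharP.charP_to_charZero k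
    have := Cartier57.smooth G
    exact S9699.result G.hom

theorem isSyntomicMor_of_flat {S : Scheme.{u}} (G : Over S) [GrpObj G] [Flat G.hom]
    [LocallyOfFinitePresentation G.hom] : Synt.IsSyntomicMor G.hom := by
  refine S9365.result G.hom fun s => ?_
  let : GrpObj (Over.mk G.hom) := ‹GrpObj G›
  let G' : Over (Spec (S.residueField s)) := Over.mk (pullback.snd G.hom (S.fromSpecResidueField s))
  let : GrpObj G' := Over.grpObjMkPullbackSnd
  have : LocallyOfFiniteType G'.hom := MorphismProperty.pullback_snd (P := @LocallyOfFiniteType) _ _ inferInstance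
  exact isSyntomicMor_of_field (k := S.residueField s) G'

end Groth.Agent.GrpSch58
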