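import Groth.Agent.GrpSch58.TorsionComponents
import Groth.Agent.GrpSch58.CICrit
import Groth.Agent.Comod33.InfStructure
import Mathlib.AlgebraicGeometry.Group.Affine
import Mathlib.AlgebraicGeometry.Morphisms.ClosedImmersion

/-!
Infinitesimal neighbourhoods of the unit section cut out by `p`-power powers are finite subgroups.
-/

set_option autoImplicit false

universe u

open CategoryTheory CategoryTheory.Limits MonoidalCategory CartesianMonoidalCategory MonObj GrpObj AlgebraicGeometry
open IsLocalRing TensorProduct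

noncomputable section

namespace Groth.Agent.GrpSch58

variable {k : Type u} [Field k]

/-- The `q`-th power of every element is constant. -/
def FrobTriv (k : Type u) [Field k] (q : ℕ) (A : Type u) [CommRing A] [Algebra k A] : Prop :=
  ∃ ε : A →ₐ[k] k, ∀ a, a ^ q = algebraMap k A (ε a ^ q)

namespace FrobTriv

variable {q : ℕ} {A B : Type u} [CommRing A] [Algebra k A] [CommRing B] [Algebra k B]

theorem isLocalRing (h : FrobTriv k q A) (hq : q ≠ 0) : IsLocalRing A := by
  obtain ⟨ε, hε⟩ := h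
  have : Nontrivial A := ε.toRingHom.domain_nontrivial
  have key : ∀ a, IsUnit a ↔ ε a ≠ 0 := fun a => by
    refine ⟨fun h => (h.map ε).ne_zero, fun h => ?_⟩
    refine (isUnit_pow_iff hq).1 ?_
    rw [hε]
    exact (IsUnit.mk0 _ (pow_ne_zero _ h)).map _
  refine IsLocalRing.of_nonunits_add fun a b ha hb => ?_
  simp only [mem_nonunits_iff, key, ne_eq, not_not] at ha hb ⊢
  rw [map_add, ha, hb, add_zero]

theorem tensor (p : ℕ) [Fact p.Prime] [CharP k p] (n : ℕ) (hA : FrobTriv k (p ^ n) A)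
    (hB : FrobTriv k (p ^ n) B) : FrobTriv k (p ^ n) (A ⊗[k] B) := by
  obtain ⟨a, ha⟩ := hA
  obtain ⟨b, hb⟩ := hB
  have : ExpChar k p := ExpChar.prime Fact.out
  let ε : A ⊗[k] B →ₐ[k] k := Algebra.TensorProduct.lift a b fun _ _ => Commute.all _ _
  refine ⟨ε, fun z => ?_⟩
  have : Nontrivial (A ⊗[k] B) := ε.toRingHom.domain_nontrivial
  have : ExpChar (A ⊗[k] B) p := expChar_of_injective_algebraMap (algebraMap k _).injective p
  induction z using TensorProduct.induction_on with
  | zero =>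
    have hp : p ^ n ≠ 0 := pow_ne_zero _ (Fact.out : p.Prime).ne_zero
    simp [zero_pow hp]
  | tmul x y =>
    rw [Algebra.TensorProduct.tmul_pow, ha, hb, show ε (x ⊗ₜ[k] y) = a x * b y from
      Algebra.TensorProduct.lift_tmul _ _ _ _ _, mul_pow, map_mul,
      Algebra.TensorProduct.algebraMap_apply, Algebra.TensorProduct.algebraMap_apply',
      Algebra.TensorProduct.tmul_mul_tmul, _root_.mul_one, _root_.one_mul]
  | add x y hx hy => rw [map_add, add_pow_expChar_pow, add_pow_expChar_pow, map_add, hx, hy]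

end FrobTriv

variable {X : Scheme.{u}}

theorem exists_factor {B : CommRingCat.{u}} [IsLocalRing B] (f : Spec B ⟶ X) (e : X)
    (h : f (closedPoint B) = e) :
    ∃ ψ : X.presheaf.stalk e ⟶ B, IsLocalHom ψ.hom ∧ Spec.map ψ ≫ X.fromSpecStalk e = f := by
  subst h
  exact ⟨Scheme.stalkClosedPointTo f, inferInstance, Scheme.Spec_stalkClosedPointTo_fromSpecStalk f⟩

/-- The algebra structure on a stalk of a scheme over a field. -/
abbrev stalkAlg (G : Over (Spec (CommRingCat.of k))) (x : G.left) : Algebra k (G.left.presheaf.stalk x) :=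
  (Spec.preimage (G.left.fromSpecStalk x ≫ G.hom)).hom.toAlgebra

theorem SpecMap_algebraMap_stalk (G : Over (Spec (CommRingCat.of k))) (x : G.left) :
    letI := stalkAlg G x
    Spec.map (CommRingCat.ofHom (algebraMap k (G.left.presheaf.stalk x))) = G.left.fromSpecStalk x ≫ G.hom := by
  letI := stalkAlg G x
  exact Spec.map_preimage _

variable [IsAlgClosed k] (G : Over (Spec (CommRingCat.of k))) [GrpObj G] [LocallyOfFiniteType G.hom]

/-- The unit point. -/
abbrev unitPoint : G.left := pt (η[G] : 𝟙_ (Over (Spec (CommRingCat.of k))) ⟶ G)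

theorem exists_counit :
    letI := stalkAlg G (unitPoint G)
    ∃ ε : G.left.presheaf.stalk (unitPoint G) →ₐ[k] k, IsLocalHom ε.toRingHom := by
  letI := stalkAlg G (unitPoint G)
  obtain ⟨ψ, hψ, hf⟩ := exists_factor (B := CommRingCat.of k) η[G].left (unitPoint G) rfl
  refine ⟨{ ψ.hom with commutes' := fun c => ?_ }, hψ⟩
  have : CommRingCat.ofHom (algebraMap k (G.left.presheaf.stalk (unitPoint G))) ≫ ψ = 𝟙 _ := Spec.map_injective (by
    rw [Spec.map_comp, SpecMap_algebraMap_stalk, reassoc_of% hf, Spec.map_id]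
    exact Over.w η[G])
  exact congrArg (fun φ => φ.hom c) this

/-- The quotient by the `p ^ n`-th powers of the maximal ideal is a finite local Hopf algebra. -/
theorem exists_hopfAlgebra (p : ℕ) [Fact p.Prime] [CharP k p] (n : ℕ)
    [IsNoetherianRing (G.left.presheaf.stalk (unitPoint G))] :
    letI := stalkAlg G (unitPoint G)
    ∀ (I : Ideal (G.left.presheaf.stalk (unitPoint G))),
      I = Ideal.span ((fun r => r ^ (p ^ n)) '' (maximalIdeal (G.left.presheaf.stalk (unitPoint G)) : Set _)) →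
      ∃ (A' : Type u) (_ : CommRing A') (_ : HopfAlgebra k A'),
        Nonempty ((G.left.presheaf.stalk (unitPoint G) ⧸ I) ≃ₐ[k] A') := by
  letI := stalkAlg G (unitPoint G)
  intro I hI
  let R := G.left.presheaf.stalk (unitPoint G)
  let q := p ^ n
  have hp : ExpChar k p := ExpChar.prime Fact.out
  have hq : q ≠ 0 := pow_ne_zero _ (Fact.out : p.Prime).ne_zero
  obtain ⟨ε, hε⟩ := exists_counit G
  have hker : ∀ r ∈ maximalIdeal R, ε r = 0 := fun r hr => by
    by_contra h
    exact hr (hε.map_nonunit r (IsUnit.mk0 _ h))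
  have hIε : ∀ r ∈ I, ε r = 0 := fun r hr => by
    refine (Ideal.span_le.2 ?_ : Ideal.span ((fun r => r ^ (p ^ n)) '' (maximalIdeal R : Set R)) ≤ RingHom.ker ε) (hI ▸ hr)
    rintro _ ⟨s, hs, rfl⟩
    show ε (s ^ q) = 0
    rw [map_pow, hker s hs, zero_pow hq]
  let A : CommRingCat.{u} := CommRingCat.of (R ⧸ I)
  let εA : A →ₐ[k] k := Ideal.Quotient.liftₐ I ε hIε
  have : Nontrivial A := εA.toRingHom.domain_nontrivial
  have : ExpChar A p := expChar_of_injective_algebraMap (algebraMap k A).injective p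
  have hA : FrobTriv k q A := by
    refine ⟨εA, fun a => ?_⟩
    obtain ⟨r, rfl⟩ := Ideal.Quotient.mk_surjective a
    have hm : r - algebraMap k R (ε r) ∈ maximalIdeal R := fun hu => by
      have := hu.map ε
      rw [map_sub, AlgHom.commutes, Algebra.algebraMap_self, RingHom.id_apply, sub_self] at this
      exact not_isUnit_zero this
    have h0 : Ideal.Quotient.mk I ((r - algebraMap k R (ε r)) ^ q) = 0 :=
      Ideal.Quotient.eq_zero_iff_mem.2 (hI ▸ Ideal.subset_span ⟨_, hm, rfl⟩)
    rw [map_pow, map_sub, sub_pow_expChar_pow, sub_eq_zero, ← map_pow, ← map_pow, ← map_pow] at h0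
    rw [← map_pow, h0]
    rfl
  let Z : Over (Spec (CommRingCat.of k)) := Over.mk (Spec.map (CommRingCat.ofHom (algebraMap k A)))
  let mk : R ⟶ A := CommRingCat.ofHom (Ideal.Quotient.mk I)
  let jZ : Z ⟶ G := Over.homMk (Spec.map mk ≫ G.left.fromSpecStalk _) (by
    rw [Category.assoc, ← SpecMap_algebraMap_stalk, ← Spec.map_comp]
    rfl)
  have : IsClosedImmersion (Spec.map mk) := IsClosedImmersion.spec_of_surjective _ Ideal.Quotient.mk_surjective
  have : Mono jZ.left := inferInstanceAs (Mono (Spec.map mk ≫ G.left.fromSpecStalk _))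
  have : Mono jZ := (Over.forget _).mono_of_mono_map ‹Mono jZ.left›
  have hAloc : IsLocalRing A := hA.isLocalRing hq
  let e₀ : 𝟙_ (Over (Spec (CommRingCat.of k))) ⟶ Z := Over.homMk (Spec.map (CommRingCat.ofHom εA.toRingHom)) (by
    show Spec.map _ ≫ Spec.map _ = 𝟙 _
    rw [← Spec.map_comp, ← CommRingCat.ofHom_comp, AlgHom.toRingHom_eq_coe, AlgHom.comp_algebraMap,
      Algebra.algebraMap_self, CommRingCat.ofHom_id, Spec.map_id])
  have he₀ : e₀ ≫ jZ = η[G] := eq_of_pt_eq (by
    show G.left.fromSpecStalk _ (Spec.map mk (Spec.map (CommRingCat.ofHom εA.toRingHom) (closedPoint k))) = _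
    have : IsLocalHom (CommRingCat.ofHom (εA.toRingHom.comp mk.hom)).hom := hε
    rw [← Scheme.Hom.comp_apply (Spec.map _) (Spec.map mk), ← Spec.map_comp]
    exact (congrArg _ (Spec_closedPoint (f := CommRingCat.ofHom (εA.toRingHom.comp mk.hom)))).trans
      Scheme.fromSpecStalk_closedPoint)
  let m₀ : Z ⊗ Z ⟶ G := (fst Z Z ≫ jZ)⁻¹ * (snd Z Z ≫ jZ)
  let B : CommRingCat.{u} := CommRingCat.of (A ⊗[k] A)
  have hB : FrobTriv k q B := FrobTriv.tensor p n hA hA
  have hBloc : IsLocalRing B := hB.isLocalRing hq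
  have hBsub : Subsingleton (Spec B) := by
    obtain ⟨εB, hεB⟩ := hB
    refine ⟨fun x y => PrimeSpectrum.ext (Eq.trans (b := maximalIdeal B) ?_ (Eq.symm ?_))⟩
    · exact le_antisymm (IsLocalRing.le_maximalIdeal x.2.ne_top) fun b hb => x.2.mem_of_pow_mem q (by
        rw [hεB, show εB b = 0 from by_contra fun h => hb ((isUnit_pow_iff hq).1 (by
          rw [hεB]; exact (IsUnit.mk0 _ (pow_ne_zero _ h)).map _)), zero_pow hq, map_zero]
        exact zero_mem _)
    · exact le_antisymm (IsLocalRing.le_maximalIdeal y.2.ne_top) fun b hb => y.2.mem_of_pow_mem q (by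
        rw [hεB, show εB b = 0 from by_contra fun h => hb ((isUnit_pow_iff hq).1 (by
          rw [hεB]; exact (IsUnit.mk0 _ (pow_ne_zero _ h)).map _)), zero_pow hq, map_zero]
        exact zero_mem _)
  let iB : Spec B ⟶ (Z ⊗ Z).left := (pullbackSpecIso k A A).inv
  have : IsIso iB := inferInstanceAs (IsIso (pullbackSpecIso k A A).inv)
  let φ : Spec B ⟶ G.left := iB ≫ m₀.left
  have hφ : φ ≫ G.hom = Spec.map (CommRingCat.ofHom (algebraMap k B)) := by
    rw [Category.assoc, Over.w m₀]
    show (pullbackSpecIso k A A).inv ≫ pullback.fst _ _ ≫ Spec.map _ = _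
    rw [pullbackSpecIso_inv_fst_assoc, ← Spec.map_comp]
    rfl
  have hpt : φ (closedPoint B) = unitPoint G := by
    let c := lift e₀ e₀
    have hc : c ≫ m₀ = η[G] := by
      rw [MonObj.comp_mul, GrpObj.comp_inv, lift_fst_assoc, lift_snd_assoc, he₀, inv_mul_cancel, one_eq_one]
    rw [Subsingleton.elim (α := Spec B) (closedPoint B) ((inv iB).base (pt c))]
    show m₀.left (iB ((inv iB) (pt c))) = _
    rw [← Scheme.Hom.comp_apply (inv iB) iB, IsIso.inv_hom_id]
    show m₀.left (c.left (closedPoint k)) = _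
    rw [← Scheme.Hom.comp_apply, ← Over.comp_left, hc]
    rfl
  obtain ⟨ψ, hψ, hψf⟩ := exists_factor φ _ hpt
  have hψalg : ∀ x, ψ.hom (algebraMap k R x) = algebraMap k B x := fun x => by
    have : CommRingCat.ofHom (algebraMap k R) ≫ ψ = CommRingCat.ofHom (algebraMap k B) := Spec.map_injective (by
      rw [Spec.map_comp, SpecMap_algebraMap_stalk, reassoc_of% hψf, hφ])
    exact congrArg (fun f => f.hom x) this
  have hIψ : ∀ r ∈ I, ψ.hom r = 0 := fun r hr => by
    refine (Ideal.span_le.2 ?_ : Ideal.span ((fun r => r ^ (p ^ n)) '' (maximalIdeal R : Set R)) ≤ RingHom.ker ψ.hom) (hI ▸ hr)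
    rintro _ ⟨s, hs, rfl⟩
    show ψ.hom (s ^ q) = 0
    obtain ⟨εB, hεB⟩ := hB
    have h1 : εB (ψ.hom s) = 0 := by
      by_contra h
      have h2 : IsUnit (ψ.hom s ^ q) := by
        rw [hεB]; exact (IsUnit.mk0 _ (pow_ne_zero _ h)).map _
      exact hs (hψ.map_nonunit s ((isUnit_pow_iff hq).1 h2))
    rw [map_pow, hεB, h1, zero_pow hq, map_zero]
  let ψA : A ⟶ B := CommRingCat.ofHom (Ideal.Quotient.lift I ψ.hom hIψ)
  let m : Z ⊗ Z ⟶ Z := Over.homMk (inv iB ≫ Spec.map ψA) (by
    rw [Category.assoc, IsIso.inv_comp_eq]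
    show Spec.map ψA ≫ Spec.map (CommRingCat.ofHom (algebraMap k A)) = iB ≫ (Z ⊗ Z).hom
    rw [← Over.w m₀, ← Category.assoc iB]
    change _ = φ ≫ G.hom
    rw [hφ, ← Spec.map_comp]
    congr 1
    ext x
    exact hψalg x)
  have hm : m ≫ jZ = m₀ := Over.OverMorphism.ext (by
    show (inv iB ≫ Spec.map ψA) ≫ Spec.map mk ≫ G.left.fromSpecStalk _ = m₀.left
    rw [Category.assoc, IsIso.inv_comp_eq, ← Spec.map_comp_assoc]
    exact hψf)
  obtain ⟨hGrp, hmon⟩ := AlgGrp79.exists_grpObj_closed jZ ⟨e₀, he₀⟩ fun T k₁ k₂ => ⟨lift k₁ k₂ ≫ m, by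
    rw [Category.assoc, hm, MonObj.comp_mul, GrpObj.comp_inv, lift_fst_assoc, lift_snd_assoc]⟩
  have : IsAffine Z.left := inferInstanceAs (IsAffine (Spec A))
  obtain ⟨Hop, ⟨e⟩⟩ := (essImage_hopfSpec (G := Grp.mk Z)).2 ‹_›
  let A' := CommRingCat.of Hop.unop
  let θ : (Spec A').asOver (Spec (CommRingCat.of k)) ≅ Z := (Grp.forget _).mapIso e
  let θl : Spec A' ≅ Spec A := (Over.forget _).mapIso θ
  have hθw : θl.hom ≫ Spec.map (CommRingCat.ofHom (algebraMap k A)) = Spec.map (CommRingCat.ofHom (algebraMap k A')) :=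
    Over.w θ.hom
  let f : A ≅ A' :=
    { hom := Spec.preimage θl.hom
      inv := Spec.preimage θl.inv
      hom_inv_id := Spec.map_injective (by rw [Spec.map_comp, Spec.map_preimage, Spec.map_preimage, Spec.map_id, θl.inv_hom_id])
      inv_hom_id := Spec.map_injective (by rw [Spec.map_comp, Spec.map_preimage, Spec.map_preimage, Spec.map_id, θl.hom_inv_id]) }
  refine ⟨A', inferInstance, inferInstanceAs (HopfAlgebra k Hop.unop), ⟨AlgEquiv.ofRingEquiv (f := f.commRingCatIsoToRingEquiv) fun x => ?_⟩⟩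
  have : CommRingCat.ofHom (algebraMap k A) ≫ f.hom = CommRingCat.ofHom (algebraMap k A') := Spec.map_injective (by
    rw [Spec.map_comp, Spec.map_preimage, hθw])
  exact congrArg (fun g => g.hom x) this

end Groth.Agent.GrpSch58
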