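import Groth.Prelude.Def_AlgGrp
import Mathlib.AlgebraicGeometry.Morphisms.ClosedImmersion
import Mathlib.CategoryTheory.Monoidal.Cartesian.Grp
import Mathlib.CategoryTheory.Monoidal.Cartesian.Over
import Mathlib.CategoryTheory.Limits.Constructions.Over.Connected
import Mathlib.RingTheory.Int.Basic

/-!
Kernels of powers and translation actions of closed subgroups.
-/

set_option autoImplicit false

universe u

open CategoryTheory CategoryTheory.Limits MonoidalCategory CartesianMonoidalCategory MonObj GrpObj AlgebraicGeometry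

namespace Groth.Agent.GrpSch58

section Cat

variable {C : Type*} [Category C] [CartesianMonoidalCategory C]

theorem comp_npow {G X Y : C} [GrpObj G] (f : X ⟶ Y) (g : Y ⟶ G) (n : ℕ) : f ≫ g ^ n = (f ≫ g) ^ n := by
  induction n with
  | zero => simp [pow_zero, MonObj.comp_one]
  | succ n ih => rw [pow_succ, pow_succ, MonObj.comp_mul, ih]

theorem comp_zpow' {G X Y : C} [GrpObj G] (f : X ⟶ Y) (g : Y ⟶ G) (z : ℤ) : f ≫ g ^ z = (f ≫ g) ^ z := by
  induction z using Int.negInduction with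
  | nat n => simp [zpow_natCast, comp_npow]
  | neg ih n => rw [zpow_neg, zpow_neg, GrpObj.comp_inv, ih]

theorem isIso_kernelProd_mul [BraidedCategory C] {G Ga Gb : C} [GrpObj G] [IsCommMonObj G] {n a b : ℕ} (hn : n = a * b)
    (hab : Nat.Coprime a b) (hG : (𝟙 G) ^ n = 1)
    (ia : Ga ⟶ G) (hia : IsPullback ia (toUnit Ga) ((𝟙 G) ^ a) η[G])
    (ib : Gb ⟶ G) (hib : IsPullback ib (toUnit Gb) ((𝟙 G) ^ b) η[G]) :
    IsIso ((fst Ga Gb ≫ ia) * (snd Ga Gb ≫ ib)) := by
  obtain ⟨x, y, hxy⟩ : IsCoprime (a : ℤ) (b : ℤ) := Int.isCoprime_iff_gcd_eq_one.2 (by simpa using hab)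
  have hkill : ∀ {T : C} (g : T ⟶ G), g ^ n = 1 := fun g => by
    rw [← Category.comp_id g, ← comp_npow, hG, MonObj.comp_one]
  have hz : ∀ {T : C} (g : T ⟶ G) (z : ℤ), g ^ (z * n) = 1 := fun g z => by
    rw [mul_comm, zpow_mul, zpow_natCast, hkill, one_zpow]
  have hca : ∀ {T : C} (g : T ⟶ G), (g ^ (y * b)) ^ a = 1 := fun g => by
    rw [← zpow_natCast, ← zpow_mul, _root_.mul_assoc, ← Nat.cast_mul, mul_comm b a, ← hn, hz]
  have hcb : ∀ {T : C} (g : T ⟶ G), (g ^ (x * a)) ^ b = 1 := fun g => by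
    rw [← zpow_natCast, ← zpow_mul, _root_.mul_assoc, ← Nat.cast_mul, ← hn, hz]
  have ka : ∀ {T : C} (f : T ⟶ G), f ^ a = 1 → f ≫ (𝟙 G) ^ a = toUnit T ≫ η[G] := fun f h => by
    rw [comp_npow, Category.comp_id, h, Hom.one_def]
  have kb : ∀ {T : C} (f : T ⟶ G), f ^ b = 1 → f ≫ (𝟙 G) ^ b = toUnit T ≫ η[G] := fun f h => by
    rw [comp_npow, Category.comp_id, h, Hom.one_def]
  have ha : ia ^ a = 1 := by
    have := hia.w
    rwa [comp_npow, Category.comp_id, ← Hom.one_def] at this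
  have hb : ib ^ b = 1 := by
    have := hib.w
    rwa [comp_npow, Category.comp_id, ← Hom.one_def] at this
  let p : G ⟶ Ga := hia.lift ((𝟙 G) ^ (y * b)) (toUnit G) (ka _ (hca _))
  let q : G ⟶ Gb := hib.lift ((𝟙 G) ^ (x * a)) (toUnit G) (kb _ (hcb _))
  have hp : p ≫ ia = (𝟙 G) ^ (y * b) := hia.lift_fst _ _ _
  have hq : q ≫ ib = (𝟙 G) ^ (x * a) := hib.lift_fst _ _ _
  refine ⟨lift p q, ?_, ?_⟩
  · ext
    · apply hia.hom_ext
      · simp only [Category.assoc, lift_fst_assoc, hp, comp_zpow', Category.comp_id, Category.id_comp, mul_zpow]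
        have h1 : (snd Ga Gb ≫ ib) ^ (y * b) = 1 := by
          rw [← comp_zpow', mul_comm, zpow_mul, zpow_natCast, hb, one_zpow, MonObj.comp_one]
        have h2 : (fst Ga Gb ≫ ia) ^ (x * a) = 1 := by
          rw [← comp_zpow', mul_comm, zpow_mul, zpow_natCast, ha, one_zpow, MonObj.comp_one]
        rw [h1, _root_.mul_one]
        conv_rhs => rw [← zpow_one (fst Ga Gb ≫ ia), ← hxy, zpow_add, h2, _root_.one_mul]
      · exact toUnit_unique _ _
    · apply hib.hom_ext
      · simp only [Category.assoc, lift_snd_assoc, hq, comp_zpow', Category.comp_id, Category.id_comp, mul_zpow]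
        have h1 : (fst Ga Gb ≫ ia) ^ (x * a) = 1 := by
          rw [← comp_zpow', mul_comm, zpow_mul, zpow_natCast, ha, one_zpow, MonObj.comp_one]
        have h2 : (snd Ga Gb ≫ ib) ^ (y * b) = 1 := by
          rw [← comp_zpow', mul_comm, zpow_mul, zpow_natCast, hb, one_zpow, MonObj.comp_one]
        rw [h1, _root_.one_mul]
        conv_rhs => rw [← zpow_one (snd Ga Gb ≫ ib), ← hxy, zpow_add, h2, _root_.mul_one]
      · exact toUnit_unique _ _
  · rw [MonObj.comp_mul, lift_fst_assoc, lift_snd_assoc, hp, hq, ← zpow_add, add_comm, hxy, zpow_one]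

/-- `(g, h) ↦ (g * h, h)`. -/
def shearLeft (H : C) [GrpObj H] : H ⊗ H ≅ H ⊗ H where
  hom := lift (fst H H * snd H H) (snd H H)
  inv := lift (fst H H * (snd H H)⁻¹) (snd H H)
  hom_inv_id := by ext <;> simp [comp_mul, GrpObj.comp_inv]
  inv_hom_id := by ext <;> simp [comp_mul, GrpObj.comp_inv]

end Cat

theorem isClosedImmersion_shear {S : Scheme.{u}} (G H : Over S)
    [GrpObj H] (i : G ⟶ H) [IsClosedImmersion i.left] :
    IsClosedImmersion (lift ((i ▷ H) ≫ μ[H]) (snd G H)).left := by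
  have e : lift ((i ▷ H) ≫ μ[H]) (snd G H) = (i ▷ H) ≫ (shearLeft H).hom := by
    ext
    · simp [shearLeft, Hom.mul_def]
    · simp [shearLeft]
  have : IsIso (shearLeft H).hom.left := ((Over.forget S).mapIso (shearLeft H)).isIso_hom
  have hpb : IsPullback (i ▷ H) (fst G H) (fst H H) i := by
    refine ⟨⟨by simp⟩, ⟨PullbackCone.IsLimit.mk _ (fun s => lift s.snd (s.fst ≫ snd H H))
      (fun s => ?_) (fun s => by simp) (fun s m h1 h2 => ?_)⟩⟩
    · ext : 1
      · simp [s.condition]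
      · simp
    · ext : 1
      · simp [← h2]
      · simp [← h1]
  have : IsClosedImmersion (i ▷ H).left :=
    MorphismProperty.of_isPullback (hpb.map (Over.forget S)).flip ‹IsClosedImmersion i.left›
  rw [e, Over.comp_left]
  infer_instance

end Groth.Agent.GrpSch58
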