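import Mathlib.Algebra.Lie.Basic
import Mathlib.LinearAlgebra.Basis.Basic
import Mathlib.LinearAlgebra.LinearIndependent.Defs
import Mathlib.RingTheory.LaurentSeries

/-!
Three-dimensional solvable Lie algebras with two-dimensional abelian derived algebra.
-/

set_option autoImplicit false

universe u v w

namespace Groth.Agent.GrpSch58

variable {K : Type u} [Field K] {L : Type v} [LieRing L] [LieAlgebra K L]

theorem lie_coord (b : Module.Basis (Fin 3) K L) {α β γ δ : K} (h01 : ⁅b 0, b 1⁆ = α • b 1 + β • b 2)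
    (h02 : ⁅b 0, b 2⁆ = γ • b 1 + δ • b 2) (h12 : ⁅b 1, b 2⁆ = 0) (X u : L) (c : K) (h : ⁅X, u⁆ = c • u) :
    c * b.repr u 0 = 0 ∧
    c * b.repr u 1 = α * (b.repr X 0 * b.repr u 1 - b.repr X 1 * b.repr u 0) +
        γ * (b.repr X 0 * b.repr u 2 - b.repr X 2 * b.repr u 0) ∧
    c * b.repr u 2 = β * (b.repr X 0 * b.repr u 1 - b.repr X 1 * b.repr u 0) +
        δ * (b.repr X 0 * b.repr u 2 - b.repr X 2 * b.repr u 0) := by
  have h10 : ⁅b 1, b 0⁆ = -(α • b 1 + β • b 2) := by rw [← h01, lie_skew]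
  have h20 : ⁅b 2, b 0⁆ = -(γ • b 1 + δ • b 2) := by rw [← h02, lie_skew]
  have h21 : ⁅b 2, b 1⁆ = 0 := by rw [← lie_skew, h12, neg_zero]
  have hX := b.sum_repr X
  have hu := b.sum_repr u
  rw [Fin.sum_univ_three] at hX hu
  set a₀ := b.repr X 0
  set a₁ := b.repr X 1
  set a₂ := b.repr X 2
  set p := b.repr u 0
  set q := b.repr u 1
  set r := b.repr u 2
  have e : c • u = (α * (a₀ * q - a₁ * p) + γ * (a₀ * r - a₂ * p)) • b 1 +
      (β * (a₀ * q - a₁ * p) + δ * (a₀ * r - a₂ * p)) • b 2 := by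
    rw [← h]
    conv_lhs => rw [← hX, ← hu]
    simp only [lie_add, add_lie, lie_smul, smul_lie, lie_self, smul_zero, h01, h02, h12, h10, h20, h21]
    module
  have e' := congrArg b.repr e
  rw [map_smul, map_add, map_smul, map_smul, b.repr_self, b.repr_self] at e'
  have f0 := DFunLike.congr_fun e' (0 : Fin 3)
  have f1 := DFunLike.congr_fun e' (1 : Fin 3)
  have f2 := DFunLike.congr_fun e' (2 : Fin 3)
  simp [Finsupp.single_apply] at f0 f1 f2
  exact ⟨mul_eq_zero.2 f0, f1, f2⟩

/-- A linear equivalence preserving the brackets of a basis is an isomorphism. -/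
def lieEquivOfBasis {ι : Type*} {M : Type w} [LieRing M] [LieAlgebra K M] (b : Module.Basis ι K L) (e : L ≃ₗ[K] M)
    (h : ∀ i j, e ⁅b i, b j⁆ = ⁅e (b i), e (b j)⁆) : L ≃ₗ⁅K⁆ M :=
  { e with
    map_lie' := by
      intro x y
      have : (LinearMap.mk₂ K (fun x y => e ⁅x, y⁆) (by simp [add_lie]) (by simp [smul_lie])
          (by simp [lie_add]) (by simp [lie_smul])) =
          LinearMap.mk₂ K (fun x y => ⁅e x, e y⁆) (by simp [add_lie]) (by simp [smul_lie])
            (by simp [lie_add]) (by simp [lie_smul]) :=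
        b.ext fun i => b.ext fun j => h i j
      exact LinearMap.congr_fun₂ this x y }

theorem nonempty_lieEquiv_iff {M : Type w} [LieRing M] [LieAlgebra K M] (t t' : K) (ht : t ≠ 0) (ht' : t' ≠ 0)
    (b : Module.Basis (Fin 3) K L)
    (h01 : ⁅b 0, b 1⁆ = b 1) (h02 : ⁅b 0, b 2⁆ = t • b 2) (h12 : ⁅b 1, b 2⁆ = 0)
    (b' : Module.Basis (Fin 3) K M)
    (h01' : ⁅b' 0, b' 1⁆ = b' 1) (h02' : ⁅b' 0, b' 2⁆ = t' • b' 2) (h12' : ⁅b' 1, b' 2⁆ = 0) :
    Nonempty (L ≃ₗ⁅K⁆ M) ↔ (t' = t ∨ t' = t⁻¹) := by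
  constructor
  · rintro ⟨e⟩
    have hY : ⁅e (b 0), e (b 1)⁆ = (1 : K) • e (b 1) := by rw [← LieEquiv.map_lie, h01, one_smul]
    have hZ : ⁅e (b 0), e (b 2)⁆ = t • e (b 2) := by
      rw [← LieEquiv.map_lie, h02]; exact map_smul e.toLinearEquiv t _
    have A := fun u c h => lie_coord (α := 1) (β := 0) (γ := 0) (δ := t') b' (by simp [h01']) (by simp [h02'])
      h12' (e (b 0)) u c h
    obtain ⟨y0, y1, y2⟩ := A _ _ hY
    obtain ⟨z0, z1, z2⟩ := A _ _ hZ
    set a := b'.repr (e (b 0)) 0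
    set Y := b'.repr (e (b 1))
    set Z := b'.repr (e (b 2))
    have y0' : Y 0 = 0 := by simpa using y0
    have z0' : Z 0 = 0 := by simpa [ht] using z0
    simp only [y0', mul_zero, sub_zero, one_mul, zero_mul, add_zero, zero_add] at y1 y2
    simp only [z0', mul_zero, sub_zero, one_mul, zero_mul, add_zero, zero_add] at z1 z2
    -- the images of `y` and `z` are independent
    have hind : ∀ c : K, Z ≠ c • Y := by
      intro c hc
      have h' : b 2 = c • b 1 := e.toLinearEquiv.injective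
        ((b'.repr.injective (hc.trans (map_smul b'.repr c _).symm)).trans (map_smul e.toLinearEquiv c _).symm)
      have := congrArg (fun v => b.repr v 2) h'
      simp at this
    have hYne : Y ≠ 0 := by
      intro h0
      exact b.ne_zero 1 (e.toLinearEquiv.injective ((b'.repr.injective (h0.trans (map_zero _).symm)).trans (map_zero _).symm))
    have hext : ∀ f : Fin 3 →₀ K, f 0 = 0 → f 1 = 0 → f 2 = 0 → f = 0 := fun f p q r => by
      ext i; fin_cases i <;> assumption
    by_cases ha : a = 1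
    · simp only [ha, one_mul, mul_one] at y2 z2 z1
      by_cases h1 : t' = 1
      · subst h1
        left
        by_contra hne
        have q0 : Z 1 = 0 := by
          by_contra h
          exact hne (mul_right_cancel₀ h (show (1:K) * Z 1 = t * Z 1 by rw [z1, one_mul]))
        have r0 : Z 2 = 0 := by
          by_contra h
          exact hne (mul_right_cancel₀ h (show (1:K) * Z 2 = t * Z 2 by rw [z2]))
        exact hind 0 (by rw [zero_smul]; exact hext Z z0' q0 r0)
      · have r0 : Y 2 = 0 := by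
          by_contra h
          exact h1 (mul_right_cancel₀ h (show t' * Y 2 = 1 * Y 2 by rw [one_mul, ← y2]))
        have q1 : Y 1 ≠ 0 := fun q => hYne (hext Y y0' q r0)
        left
        by_contra hne
        have r1 : Z 2 = 0 := by
          by_contra h
          exact hne (mul_right_cancel₀ h z2.symm)
        refine hind (Z 1 / Y 1) ?_
        ext i
        fin_cases i <;> simp [y0', z0', r0, r1, q1]
    · have q0 : Y 1 = 0 := by
        by_contra h
        exact ha (mul_right_cancel₀ h (show a * Y 1 = 1 * Y 1 by rw [one_mul]; exact y1.symm))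
      have r1 : Y 2 ≠ 0 := fun r => hYne (hext Y y0' q0 r)
      have hta : t' * a = 1 := mul_right_cancel₀ r1 (show t' * a * Y 2 = 1 * Y 2 by rw [one_mul, mul_assoc, ← y2])
      have q1 : Z 1 ≠ 0 := by
        intro q
        refine hind (Z 2 / Y 2) ?_
        ext i
        fin_cases i <;> simp [y0', z0', q0, q, r1]
      right
      rw [← mul_right_cancel₀ q1 z1.symm]
      exact eq_inv_of_mul_eq_one_left hta
  · rintro (rfl | rfl)
    · refine ⟨lieEquivOfBasis b (b.equiv b' (Equiv.refl _)) ?_⟩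
      intro i j
      have h10 : ⁅b 1, b 0⁆ = -b 1 := by rw [← lie_skew, h01]
      have h20 : ⁅b 2, b 0⁆ = -(t' • b 2) := by rw [← lie_skew, h02]
      have h21 : ⁅b 2, b 1⁆ = 0 := by rw [← lie_skew, h12, neg_zero]
      have h10' : ⁅b' 1, b' 0⁆ = -b' 1 := by rw [← lie_skew, h01']
      have h20' : ⁅b' 2, b' 0⁆ = -(t' • b' 2) := by rw [← lie_skew, h02']
      have h21' : ⁅b' 2, b' 1⁆ = 0 := by rw [← lie_skew, h12', neg_zero]
      fin_cases i <;> fin_cases j <;>
        simp [h01, h02, h12, h10, h20, h21, h01', h02', h12', h10', h20', h21']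
    · let b'' : Module.Basis (Fin 3) K M := (b'.unitsSMul ![Units.mk0 t ht, 1, 1]).reindex (Equiv.swap 1 2)
      have e0 : b'' 0 = t • b' 0 := by simp [b'', Module.Basis.unitsSMul_apply, Units.smul_def, Equiv.swap_apply_def]
      have e1 : b'' 1 = b' 2 := by simp [b'', Module.Basis.unitsSMul_apply, Units.smul_def, Equiv.swap_apply_def]
      have e2 : b'' 2 = b' 1 := by simp [b'', Module.Basis.unitsSMul_apply, Units.smul_def, Equiv.swap_apply_def]
      refine ⟨lieEquivOfBasis b (b.equiv b'' (Equiv.refl _)) ?_⟩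
      intro i j
      have h10 : ⁅b 1, b 0⁆ = -b 1 := by rw [← lie_skew, h01]
      have h20 : ⁅b 2, b 0⁆ = -(t • b 2) := by rw [← lie_skew, h02]
      have h21 : ⁅b 2, b 1⁆ = 0 := by rw [← lie_skew, h12, neg_zero]
      have h10' : ⁅b' 1, b' 0⁆ = -b' 1 := by rw [← lie_skew, h01']
      have h20' : ⁅b' 2, b' 0⁆ = -(t⁻¹ • b' 2) := by rw [← lie_skew, h02']
      have h21' : ⁅b' 2, b' 1⁆ = 0 := by rw [← lie_skew, h12', neg_zero]
      fin_cases i <;> fin_cases j <;>
        simp [h01, h02, h12, h10, h20, h21, h01', h02', h12', h10', h20', h21', e0, e1, e2, smul_smul, ht, mul_inv_cancel₀]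

theorem isEmpty_lieEquiv_laurent {k : Type u} [Field k] {F : Type v} [LieRing F] [LieAlgebra (LaurentSeries k) F]
    (bF : Module.Basis (Fin 3) (LaurentSeries k) F) (hF01 : ⁅bF 0, bF 1⁆ = bF 2)
    (hF02 : ⁅bF 0, bF 2⁆ = (HahnSeries.single 1 (1 : k) : LaurentSeries k) • bF 1) (hF12 : ⁅bF 1, bF 2⁆ = 0)
    {M : Type w} [LieRing M] [LieAlgebra (LaurentSeries k) M] (bL : Module.Basis (Fin 3) (LaurentSeries k) M)
    (hL01 : ⁅bL 0, bL 1⁆ = bL 1) : IsEmpty (M ≃ₗ⁅LaurentSeries k⁆ F) := by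
  refine ⟨fun e => ?_⟩
  have hY : ⁅e (bL 0), e (bL 1)⁆ = (1 : LaurentSeries k) • e (bL 1) := by rw [← LieEquiv.map_lie, hL01, one_smul]
  obtain ⟨y0, y1, y2⟩ := lie_coord (α := 0) (β := 1) (γ := HahnSeries.single 1 (1 : k)) (δ := 0) bF
    (by simp [hF01]) (by simp [hF02]) hF12 _ _ _ hY
  set a := bF.repr (e (bL 0)) 0
  set Y := bF.repr (e (bL 1))
  have y0' : Y 0 = 0 := by simpa using y0
  simp only [y0', mul_zero, sub_zero, one_mul, zero_mul, add_zero, zero_add] at y1 y2
  have hq : Y 1 ≠ 0 := by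
    intro q
    have r : Y 2 = 0 := by rw [y2, q, mul_zero]
    have h0 : Y = 0 := by ext i; fin_cases i <;> simp [y0', q, r]
    exact bL.ne_zero 1 (e.toLinearEquiv.injective ((bF.repr.injective (h0.trans (map_zero _).symm)).trans (map_zero _).symm))
  have h1 : (HahnSeries.single 1 (1 : k) : LaurentSeries k) * (a * a) = 1 := by
    refine mul_right_cancel₀ hq ?_
    rw [one_mul]
    conv_rhs => rw [y1, y2]
    ring
  have ha : a ≠ 0 := by
    intro h; rw [h, mul_zero, mul_zero] at h1; exact zero_ne_one h1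
  have := congrArg HahnSeries.order h1
  rw [HahnSeries.order_mul (by simp) (mul_ne_zero ha ha), HahnSeries.order_mul ha ha,
    HahnSeries.order_single one_ne_zero, HahnSeries.order_one] at this
  omega

end Groth.Agent.GrpSch58
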