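import Groth.Agent.GrpSch58.OrderEtaleAlg
import Groth.Agent.AlgGrp79.Unram

/-!
A quasi-finite flat group scheme whose fibres have invertible order is etale.
-/

set_option autoImplicit false

universe u

open CategoryTheory CategoryTheory.Limits MonoidalCategory CartesianMonoidalCategory MonObj GrpObj AlgebraicGeometry

noncomputable section

namespace Groth.Agent.GrpSch58

theorem formallyUnramified_of_isAlgClosed {K : Type u} [Field K] [IsAlgClosed K]
    (H : Over (Spec (CommRingCat.of K))) [GrpObj H] [IsFinite H.hom] [Flat H.hom]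
    (h : ∀ x, (Scheme.Hom.finrank H.hom x : K) ≠ 0) : FormallyUnramified H.hom := by
  have : IsAffine H.left := isAffine_of_isAffineHom H.hom
  obtain ⟨Hop, ⟨e⟩⟩ := (essImage_hopfSpec (G := Grp.mk H)).2 ‹_›
  let A := Hop.unop
  let ψ : (Spec (CommRingCat.of A)).asOver (Spec (CommRingCat.of K)) ≅ H := (Grp.forget _).mapIso e
  have hhom : ψ.hom.left ≫ H.hom = Spec.map (CommRingCat.ofHom (algebraMap K A)) := Over.w ψ.hom
  have : IsIso ψ.hom.left := ((Over.forget _).mapIso ψ).isIso_hom
  have hfin : IsFinite (Spec.map (CommRingCat.ofHom (algebraMap K A))) := by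
    rw [← hhom]; exact (MorphismProperty.cancel_left_of_respectsIso @IsFinite ψ.hom.left H.hom).2 ‹_›
  rw [IsFinite.SpecMap_iff, CommRingCat.hom_ofHom, RingHom.finite_algebraMap] at hfin
  let p : Spec (CommRingCat.of K) := IsLocalRing.closedPoint K
  have hr : Scheme.Hom.finrank H.hom p = Module.finrank K A := by
    rw [← Scheme.Hom.finrank_comp_left_of_isIso ψ.hom.left H.hom]
    simp only [hhom]
    exact (Scheme.Hom.finrank_SpecMap_algebraMap K A p).trans
      (congrFun Module.rankAtStalk_eq_finrank_of_free p)
  have := formallyUnramified_of_finrank_ne_zero (k := K) (A := A) (hr ▸ h p)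
  rw [← MorphismProperty.cancel_left_of_respectsIso @FormallyUnramified ψ.hom.left H.hom, hhom]
  show FormallyUnramified (Spec.map (CommRingCat.ofHom (algebraMap K A)) :
    Spec (CommRingCat.of A) ⟶ Spec (CommRingCat.of K))
  rw [HasRingHomProperty.Spec_iff (P := @FormallyUnramified), CommRingCat.hom_ofHom,
    RingHom.formallyUnramified_algebraMap]
  exact this

theorem formallyUnramified_over_field {K : Type u} [Field K] (H : Over (Spec (CommRingCat.of K))) [GrpObj H]
    [IsFinite H.hom] [Flat H.hom] (h : ∀ x, (Scheme.Hom.finrank H.hom x : K) ≠ 0) :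
    FormallyUnramified H.hom := by
  let Ω : Type u := AlgebraicClosure K
  let g : Spec (.of Ω) ⟶ Spec (.of K) := Spec.map (CommRingCat.ofHom <| algebraMap K Ω)
  apply MorphismProperty.of_pullback_snd_of_descendsAlong
    (Q := @Surjective ⊓ @Flat ⊓ @QuasiCompact) (g := g)
  · exact ⟨⟨inferInstance, inferInstance⟩, inferInstance⟩
  · let : GrpObj (Over.mk H.hom) := ‹GrpObj H›
    let : GrpObj (Over.mk (pullback.snd H.hom g)) := Over.grpObjMkPullbackSnd
    have : IsFinite (Over.mk (pullback.snd H.hom g)).hom := MorphismProperty.pullback_snd _ _ ‹_›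
    have : Flat (Over.mk (pullback.snd H.hom g)).hom := MorphismProperty.pullback_snd _ _ ‹_›
    refine formallyUnramified_of_isAlgClosed (Over.mk (pullback.snd H.hom g)) fun x => ?_
    show ((pullback.snd H.hom g).finrank x : Ω) ≠ 0
    rw [Scheme.Hom.finrank_pullback_snd, ← map_natCast (algebraMap K Ω), map_ne_zero]
    exact h _

theorem etale_of_finrank_fiber_ne_zero {S : Scheme.{u}} (G : Over S) [GrpObj G]
    [Flat G.hom] [LocallyOfFinitePresentation G.hom]
    (hfin : ∀ s : S, IsFinite (pullback.snd G.hom (S.fromSpecResidueField s)))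
    (h : ∀ (s : S) (x : ↥(Spec (S.residueField s))),
      ((pullback.snd G.hom (S.fromSpecResidueField s)).finrank x : S.residueField s) ≠ 0) :
    Etale G.hom := by
  have : FormallyUnramified G.hom := AlgGrp79.formallyUnramified_of_fiberToSpecResidueField G.hom fun s => by
    let : GrpObj (Over.mk G.hom) := ‹GrpObj G›
    let : GrpObj (Over.mk (pullback.snd G.hom (S.fromSpecResidueField s))) := Over.grpObjMkPullbackSnd
    have : IsFinite (Over.mk (pullback.snd G.hom (S.fromSpecResidueField s))).hom := hfin s
    have : Flat (Over.mk (pullback.snd G.hom (S.fromSpecResidueField s))).hom := MorphismProperty.pullback_snd _ _ ‹_›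
    exact formallyUnramified_over_field (K := S.residueField s)
      (Over.mk (pullback.snd G.hom (S.fromSpecResidueField s))) (h s)
  exact Etale.of_formallyUnramified_of_flat G.hom

end Groth.Agent.GrpSch58
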