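import Mathlib.RingTheory.HopfAlgebra.Convolution
import Mathlib.RingTheory.Trace.Basic
import Mathlib.RingTheory.Idempotents
import Mathlib.RingTheory.Etale.Field
import Mathlib.RingTheory.Artinian.Module
import Mathlib.LinearAlgebra.Trace
import Mathlib.FieldTheory.IsAlgClosed.Basic
import Mathlib.FieldTheory.Minpoly.Basic

/-!
A finite dimensional Hopf algebra of invertible dimension over an algebraically closed field is reduced.
-/

set_option autoImplicit false

universe u

open TensorProduct WithConv

noncomputable section

namespace Groth.Agent.GrpSch58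

variable {k : Type u} [Field k] {A : Type u} [CommRing A] [HopfAlgebra k A]

local notation "P" => WithConv (A →ₐ[k] k)

/-- Right translation of functions by a point. -/
def rTrans (g : P) : A →ₐ[k] A :=
  (toConv (AlgHom.id k A) * toConv ((Algebra.ofId k A).comp g.ofConv)).ofConv

theorem toConv_comp_rTrans {B : Type u} [CommRing B] [Algebra k B] (φ : A →ₐ[k] B) (g : P) :
    toConv (φ.comp (rTrans g)) = toConv φ * toConv ((Algebra.ofId k B).comp g.ofConv) := by
  apply ofConv_injective
  rw [ofConv_toConv, rTrans, AlgHom.comp_convMul_distrib, ofConv_toConv, ofConv_toConv]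
  congr 3
  ext a
  simp

theorem ofId_comp_mul (g h : P) : toConv ((Algebra.ofId k A).comp (g * h).ofConv) =
    toConv ((Algebra.ofId k A).comp g.ofConv) * toConv ((Algebra.ofId k A).comp h.ofConv) := by
  apply ofConv_injective
  rw [ofConv_toConv, AlgHom.comp_convMul_distrib]

theorem rTrans_comp (g h : P) : (rTrans g).comp (rTrans h) = rTrans (g * h) := by
  have h1 := toConv_comp_rTrans (rTrans g) h
  have h2 : toConv ((rTrans g).comp (rTrans h)) =
      toConv (rTrans (g * h)) := by
    rw [h1]
    show (toConv (AlgHom.id k A) * toConv ((Algebra.ofId k A).comp g.ofConv)) *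
      toConv ((Algebra.ofId k A).comp h.ofConv) =
      toConv (AlgHom.id k A) * toConv ((Algebra.ofId k A).comp (g * h).ofConv)
    rw [mul_assoc, ofId_comp_mul]
  exact toConv_injective h2

theorem rTrans_one : rTrans (1 : P) = AlgHom.id k A := by
  apply toConv_injective
  show toConv (AlgHom.id k A) * toConv ((Algebra.ofId k A).comp (1 : P).ofConv) = _
  rw [show toConv ((Algebra.ofId k A).comp (1 : P).ofConv) = 1 from ofConv_injective (by
    ext a; simp [AlgHom.convOne_apply]), mul_one]

/-- Right translation is an automorphism. -/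
def rTransEquiv (g : P) : A ≃ₐ[k] A :=
  AlgEquiv.ofAlgHom (rTrans g) (rTrans g⁻¹) (by rw [rTrans_comp, mul_inv_cancel, rTrans_one])
    (by rw [rTrans_comp, inv_mul_cancel, rTrans_one])

theorem apply_rTrans (h g : P) (a : A) : h.ofConv (rTrans g a) = (h * g).ofConv a := by
  have := congrArg (fun t : P => t.ofConv a) (toConv_comp_rTrans h.ofConv g)
  simpa using this

variable [Module.Finite k A]

theorem trace_lid (z : A ⊗[k] A) :
    Algebra.trace A (A ⊗[k] A) z =
      TensorProduct.rid k A ((Algebra.trace k A).lTensor A z) := by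
  induction z with
  | zero => simp
  | add x y hx hy => simp only [map_add, hx, hy]
  | tmul b a =>
    have e : b ⊗ₜ[k] a = b • ((1 : A) ⊗ₜ[k] a) := by rw [TensorProduct.smul_tmul', smul_eq_mul, mul_one]
    have h1 : Algebra.trace A (A ⊗[k] A) ((1 : A) ⊗ₜ[k] a) = algebraMap k A (Algebra.trace k A a) := by
      rw [Algebra.trace_apply, Algebra.trace_apply, ← LinearMap.trace_baseChange]
      congr 1
      refine LinearMap.ext fun w => ?_
      induction w with
      | zero => simp
      | add x y hx hy => simp only [map_add, hx, hy]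
      | tmul c d => simp [Algebra.TensorProduct.tmul_mul_tmul]
    rw [e, map_smul, h1, ← e, LinearMap.lTensor_tmul, TensorProduct.rid_tmul, Algebra.smul_def, Algebra.smul_def,
      mul_comm]
    rfl

/-- The trace form is invariant. -/
theorem trace_comul (a : A) :
    TensorProduct.rid k A ((Algebra.trace k A).lTensor A (Bialgebra.comulAlgHom k A a)) =
      algebraMap k A (Algebra.trace k A a) := by
  let T := A ⊗[k] A
  let il : WithConv (A →ₐ[k] T) := toConv Algebra.TensorProduct.includeLeft
  let ir : WithConv (A →ₐ[k] T) := toConv Algebra.TensorProduct.includeRight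
  have hlA : ∀ f : WithConv (A →ₐ[k] T), ∀ x y : A, Commute (il.ofConv x) (f.ofConv y) :=
    fun _ _ _ => Commute.all _ _
  let mk : WithConv (A →ₐ[k] T) → (T →ₐ[A] T) := fun f =>
    Algebra.TensorProduct.lift (Algebra.ofId A T) f.ofConv fun _ _ => Commute.all _ _
  have hmkl : ∀ f, toConv (((mk f).restrictScalars k).comp il.ofConv) = il := fun f => ofConv_injective (by
    ext x
    show mk f (x ⊗ₜ[k] (1 : A)) = x ⊗ₜ[k] (1 : A)
    rw [Algebra.TensorProduct.lift_tmul, map_one, mul_one]
    rfl)
  have hmkr : ∀ f, toConv (((mk f).restrictScalars k).comp ir.ofConv) = f := fun f => ofConv_injective (by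
    ext x
    show mk f ((1 : A) ⊗ₜ[k] x) = f.ofConv x
    rw [Algebra.TensorProduct.lift_tmul, map_one, one_mul])
  have hmk : ∀ f g, toConv (((mk f).restrictScalars k).comp (il * g).ofConv) =
      il * toConv (((mk f).restrictScalars k).comp g.ofConv) := fun f g => ofConv_injective (by
    rw [ofConv_toConv, AlgHom.comp_convMul_distrib, hmkl])
  let ι : WithConv (A →ₐ[k] A) := toConv (AlgHom.id k A)
  let il' : WithConv (A →ₐ[k] T) := toConv (il.ofConv.comp ι⁻¹.ofConv)
  have hone : toConv (il.ofConv.comp (1 : WithConv (A →ₐ[k] A)).ofConv) = 1 := ofConv_injective (by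
    ext x
    show il.ofConv (algebraMap k A _) = algebraMap k T _
    rw [AlgHom.commutes])
  have hll : toConv (il.ofConv.comp ι.ofConv) = il := ofConv_injective (AlgHom.comp_id _)
  have hil1 : il * il' = 1 := by
    rw [← hone, ← mul_inv_cancel ι]
    apply ofConv_injective
    rw [ofConv_toConv, AlgHom.comp_convMul_distrib, hll]
  have hil2 : il' * il = 1 := by
    rw [← hone, ← inv_mul_cancel ι]
    apply ofConv_injective
    rw [ofConv_toConv, AlgHom.comp_convMul_distrib, hll]
  have hc : ∀ f g, toConv ((((mk f).comp (mk g)).restrictScalars k).comp ir.ofConv) =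
      toConv (((mk f).restrictScalars k).comp g.ofConv) := fun f g => ofConv_injective (by
    ext x
    show mk f (mk g ((1 : A) ⊗ₜ[k] x)) = mk f (g.ofConv x)
    rw [Algebra.TensorProduct.lift_tmul, map_one, one_mul])
  have h1 : (mk (il * ir)).comp (mk (il' * ir)) = AlgHom.id A T := by
    apply Algebra.TensorProduct.ext
    · ext
    · refine toConv_injective ((hc _ _).trans ?_)
      have h := hmk (il * ir) (il' * ir)
      rw [← mul_assoc, hil1, one_mul, hmkr] at h
      calc toConv (((mk (il * ir)).restrictScalars k).comp (il' * ir).ofConv)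
          = (il' * il) * toConv (((mk (il * ir)).restrictScalars k).comp (il' * ir).ofConv) := by
            rw [hil2, one_mul]
        _ = il' * (il * ir) := by rw [mul_assoc, ← h]
        _ = ir := by rw [← mul_assoc, hil2, one_mul]
  have h2 : (mk (il' * ir)).comp (mk (il * ir)) = AlgHom.id A T := by
    apply Algebra.TensorProduct.ext
    · ext
    · refine toConv_injective ((hc _ _).trans ?_)
      rw [hmk, hmkr, ← mul_assoc, hil1, one_mul]
      rfl
  let θ : T ≃ₐ[A] T := AlgEquiv.ofAlgHom _ _ h1 h2
  have hθ : θ ((1 : A) ⊗ₜ[k] a) = Bialgebra.comulAlgHom k A a := by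
    show mk (il * ir) ((1 : A) ⊗ₜ[k] a) = _
    rw [Algebra.TensorProduct.lift_tmul, map_one, one_mul, AlgHom.convMul_def, ofConv_toConv, AlgHom.comp_apply,
      AlgHom.comp_apply]
    generalize Bialgebra.comulAlgHom k A a = t
    refine TensorProduct.induction_on t ?_ (fun x y => ?_) (fun p q hp hq => ?_)
    · simp
    · rw [Algebra.TensorProduct.map_tmul, Algebra.TensorProduct.lmul'_apply_tmul]
      show (x ⊗ₜ[k] (1 : A)) * ((1 : A) ⊗ₜ[k] y) = x ⊗ₜ[k] y
      rw [Algebra.TensorProduct.tmul_mul_tmul, one_mul, mul_one]
    · simp only [map_add, hp, hq]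
  rw [← trace_lid, ← hθ, Algebra.trace_eq_of_algEquiv θ]
  have := trace_lid ((1 : A) ⊗ₜ[k] a)
  rw [this, LinearMap.lTensor_tmul, TensorProduct.rid_tmul, Algebra.smul_def, mul_one]

variable [IsAlgClosed k]

theorem isNilpotent_of_forall_point (x : A) (h : ∀ g : P, g.ofConv x = 0) : IsNilpotent x := by
  rw [nilpotent_iff_mem_prime]
  intro Q hQ
  have : IsArtinianRing A := isArtinian_of_tower k inferInstance
  have := IsArtinianRing.isMaximal_of_isPrime Q
  letI := Ideal.Quotient.field Q
  have : Algebra.IsIntegral k (A ⧸ Q) := Algebra.IsIntegral.of_finite k _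
  let e : k ≃ₐ[k] A ⧸ Q := AlgEquiv.ofBijective (Algebra.ofId k (A ⧸ Q))
    (IsAlgClosed.algebraMap_bijective_of_isIntegral)
  have := h (toConv (e.symm.toAlgHom.comp (Ideal.Quotient.mkₐ k Q)))
  simp only [ofConv_toConv, AlgHom.comp_apply] at this
  exact Ideal.Quotient.eq_zero_iff_mem.1 ((map_eq_zero_iff _ e.symm.injective).1 this)

theorem finite_points : Finite P := by
  classical
  exact Finite.of_equiv _ (WithConv.equiv (A →ₐ[k] k)).symm

open scoped Classical in
theorem exists_point_idempotent [Finite P] (g : P) :
    ∃ e : A, IsIdempotentElem e ∧ ∀ h : P, h.ofConv e = if h = g then 1 else 0 := by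
  classical
  cases nonempty_fintype P
  have hsep : ∀ h : P, h ≠ g → ∃ x, g.ofConv x = 1 ∧ h.ofConv x = 0 := by
    intro h hne
    obtain ⟨x, hx⟩ : ∃ x, g.ofConv x ≠ h.ofConv x := by
      by_contra hc
      push Not at hc
      exact hne (ofConv_injective (AlgHom.ext fun x => (hc x).symm))
    refine ⟨(g.ofConv x - h.ofConv x)⁻¹ • (x - algebraMap k A (h.ofConv x)), ?_, ?_⟩
    · rw [map_smul, map_sub, AlgHom.commutes, Algebra.algebraMap_self, RingHom.id_apply, smul_eq_mul,
        inv_mul_cancel₀ (sub_ne_zero.2 hx)]
    · rw [map_smul, map_sub, AlgHom.commutes, Algebra.algebraMap_self, RingHom.id_apply, sub_self, smul_zero]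
  choose x hx1 hx2 using hsep
  let y := ∏ h : P, if hh : h = g then (1 : A) else x h hh
  have hy : ∀ h : P, h.ofConv y = if h = g then 1 else 0 := by
    intro h
    rw [map_prod]
    split_ifs with hh
    · refine Finset.prod_eq_one fun h' _ => ?_
      split_ifs with h''
      · exact map_one _
      · rw [hh]; exact hx1 h' h''
    · refine Finset.prod_eq_zero (Finset.mem_univ h) ?_
      rw [dif_neg hh]
      exact hx2 h hh
  let f : A →+* (P → k) := Pi.ringHom fun h => h.ofConv.toRingHom
  obtain ⟨e, he, hfe⟩ := exists_isIdempotentElem_eq_of_ker_isNilpotent f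
    (fun z hz => isNilpotent_of_forall_point z fun h => congrFun (RingHom.mem_ker.1 hz) h)
    (f y) ⟨y, rfl⟩ (by
      funext h
      show h.ofConv y * h.ofConv y = h.ofConv y
      rw [hy]
      split_ifs <;> simp)
  exact ⟨e, he, fun h => (congrFun hfe h).trans (hy h)⟩

theorem eq_of_forall_point {e e' : A} (he : IsIdempotentElem e) (he' : IsIdempotentElem e')
    (h : ∀ g : P, g.ofConv e = g.ofConv e') : e = e' :=
  eq_of_isNilpotent_sub_of_isIdempotentElem he he'
    (isNilpotent_of_forall_point (k := k) _ fun g => by rw [map_sub g.ofConv e e', h, sub_self])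

theorem isReduced_of_finrank_ne_zero (hd : (Module.finrank k A : k) ≠ 0) : IsReduced A := by
  classical
  haveI := finite_points (k := k) (A := A)
  cases nonempty_fintype P
  choose e he hev using fun g : P => exists_point_idempotent (k := k) (A := A) g
  have hmul : ∀ g h : P, g ≠ h → e g * e h = 0 := fun g h hne =>
    eq_of_forall_point (k := k) ((he g).mul (he h)) IsIdempotentElem.zero fun z => by
      rw [map_mul, hev, hev, map_zero]
      split_ifs with h1 h2
      · exact absurd (h1.symm.trans h2) hne
      all_goals simp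
  have hortho : CompleteOrthogonalIdempotents e := by
    have ho : OrthogonalIdempotents e := ⟨he, fun g h hne => hmul g h hne⟩
    exact ⟨ho, eq_of_forall_point (k := k) ho.isIdempotentElem_sum IsIdempotentElem.one fun z => by
      rw [map_sum, map_one]; simp [hev]⟩
  let n : P → k := fun g => Algebra.trace k A (e g)
  have hrT : ∀ g h : P, rTrans g (e h) = e (h * g⁻¹) := fun g h =>
    eq_of_forall_point (k := k) ((he h).map (rTrans g)) (he _) fun z => by
      rw [apply_rTrans, hev, hev]
      simp [eq_mul_inv_iff_mul_eq]
  have hn : ∀ g, n g = n 1 := fun g => by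
    show Algebra.trace k A (e g) = Algebra.trace k A (e 1)
    rw [show e 1 = rTransEquiv g (e g) from ((hrT g g).trans (by rw [mul_inv_cancel])).symm,
      Algebra.trace_eq_of_algEquiv]
  have htr : ∀ a, Algebra.trace k A a = ∑ g, g.ofConv a * n g := by
    intro a
    conv_lhs => rw [← mul_one a, ← hortho.complete, Finset.mul_sum, map_sum]
    refine Finset.sum_congr rfl fun g _ => ?_
    have : IsNilpotent ((a - algebraMap k A (g.ofConv a)) * e g) :=
      isNilpotent_of_forall_point (k := k) _ fun z => by
        rw [map_mul, map_sub, hev, AlgHom.commutes]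
        split_ifs with h
        · subst h; simp
        · simp
    have h0 := (Algebra.isNilpotent_trace_of_isNilpotent (R := k) this).eq_zero
    rw [sub_mul, map_sub, sub_eq_zero] at h0
    rw [h0, ← Algebra.smul_def, map_smul, smul_eq_mul]
  have hne : n 1 ≠ 0 := by
    intro h0
    refine hd ?_
    have h := Algebra.trace_algebraMap_of_basis (Module.finBasis k A) (1 : k)
    rw [Fintype.card_fin, nsmul_one, map_one, htr] at h
    rw [← h]
    simp [hn, h0]
  have hsum : ∀ a, algebraMap k A (Algebra.trace k A a) = ∑ g : P, n 1 • rTrans g a := by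
    intro a
    rw [← trace_comul]
    have hr : ∀ g : P, rTrans g a = TensorProduct.rid k A (g.ofConv.toLinearMap.lTensor A (Bialgebra.comulAlgHom k A a)) := by
      intro g
      show (toConv (AlgHom.id k A) * toConv ((Algebra.ofId k A).comp g.ofConv)).ofConv a = _
      rw [AlgHom.convMul_def]
      simp only [ofConv_toConv, AlgHom.comp_apply]
      generalize Bialgebra.comulAlgHom k A a = t
      induction t with
      | zero => simp
      | add x y hx hy => simp only [map_add, hx, hy]
      | tmul x y =>
        simp only [Algebra.TensorProduct.map_tmul, Algebra.TensorProduct.lmul'_apply_tmul, AlgHom.id_apply,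
          AlgHom.comp_apply, LinearMap.lTensor_tmul, TensorProduct.rid_tmul, AlgHom.toLinearMap_apply]
        rw [Algebra.ofId_apply, Algebra.smul_def, mul_comm]
    have htr' : Algebra.trace k A = ∑ g : P, n 1 • g.ofConv.toLinearMap := LinearMap.ext fun b => by
      rw [htr, LinearMap.sum_apply]
      simp [hn, mul_comm]
    simp only [hr, htr']
    generalize Bialgebra.comulAlgHom k A a = t
    induction t with
    | zero => simp
    | add x y hx hy =>
      simp only [map_add, hx, hy, smul_add, Finset.sum_add_distrib]
    | tmul x y =>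
      simp [Finset.sum_smul, smul_smul]
  have key : ∀ a, IsNilpotent a → a * e 1 = 0 := by
    intro a ha
    let a' := a * e 1
    have ha' : IsNilpotent a' := (Commute.all _ _).isNilpotent_mul_left ha |> fun h => by
      simpa [a', mul_comm] using h
    have h0 := hsum a'
    rw [(Algebra.isNilpotent_trace_of_isNilpotent (R := k) ha').eq_zero, map_zero] at h0
    have h1 := congrArg (· * e 1) h0.symm
    simp only [Finset.sum_mul, zero_mul] at h1
    rw [Finset.sum_eq_single 1] at h1
    · rw [rTrans_one, AlgHom.id_apply, smul_mul_assoc, smul_eq_zero] at h1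
      have := h1.resolve_left hne
      rwa [mul_assoc, (he 1).eq] at this
    · intro g _ hg
      rw [smul_mul_assoc, map_mul, hrT, mul_assoc, hmul _ _ (by rwa [one_mul, ne_eq, inv_eq_one]), mul_zero,
        smul_zero]
    · simp
  refine ⟨fun a ha => ?_⟩
  rw [← mul_one a, ← hortho.complete, Finset.mul_sum]
  refine Finset.sum_eq_zero fun g _ => ?_
  have h1 := key (rTrans g a) (ha.map _)
  rw [show e 1 = rTrans g (e g) from ((hrT g g).trans (by rw [mul_inv_cancel])).symm, ← map_mul] at h1
  exact (rTransEquiv g).injective (h1.trans (map_zero _).symm)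

theorem formallyUnramified_of_finrank_ne_zero (hd : (Module.finrank k A : k) ≠ 0) :
    Algebra.FormallyUnramified k A := by
  have := isReduced_of_finrank_ne_zero (k := k) (A := A) hd
  have : IsArtinianRing A := isArtinian_of_tower k inferInstance
  have : Algebra.FormallyEtale k A := by
    rw [Algebra.FormallyEtale.iff_exists_algEquiv_prod]
    letI : ∀ m : MaximalSpectrum A, Field (A ⧸ m.asIdeal) := fun m => Ideal.Quotient.field _
    exact ⟨_, inferInstance, fun m : MaximalSpectrum A => A ⧸ m.asIdeal, fun m => Ideal.Quotient.field _,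
      fun m => inferInstance, (IsArtinianRing.equivPi A).restrictScalars k, fun m => inferInstance⟩
  infer_instance

end Groth.Agent.GrpSch58
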