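import Groth.Agent.FSAdic12.LocSmooth
import Mathlib.RingTheory.Smooth.Locus

/-!
Smoothness of a closed subscheme along a section from a split conormal sequence.
-/

set_option autoImplicit false

universe u

open TensorProduct KaehlerDifferential

namespace Groth.Agent.GrpSch58

variable (R A : Type u) [CommRing R] [CommRing A] [Algebra R A]

theorem exists_derivation (ε : A →ₐ[R] R) (J : Ideal A) (hJI : J ≤ RingHom.ker ε)
    (h2 : J ⊓ RingHom.ker ε ^ 2 = RingHom.ker ε * J)
    (h3 : Module.Projective R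
      (↥(RingHom.ker ε) ⧸ Submodule.comap (RingHom.ker ε).subtype (J ⊔ RingHom.ker ε ^ 2)))
    (V : Type u) [AddCommGroup V] [Module A V] [Module R V] [IsScalarTower R A V]
    (hV : ∀ a ∈ RingHom.ker ε, ∀ v : V, a • v = 0) (θ : J →ₗ[A] V) :
    ∃ D : Derivation R A V, ∀ (x : A) (hx : x ∈ J), D x = θ ⟨x, hx⟩ := by
  classical
  set I := RingHom.ker ε
  let N : Submodule A I := Submodule.comap I.subtype (J ⊔ I ^ 2)
  let π : I →ₗ[R] (I ⧸ N) := N.mkQ.restrictScalars R
  obtain ⟨s, hs⟩ := Module.projective_lifting_property π (LinearMap.id : (I ⧸ N) →ₗ[R] _) N.mkQ_surjective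
  have hI2 : ∀ (z : A) (hz : z ∈ I ^ 2) (hzJ : z ∈ J), θ ⟨z, hzJ⟩ = 0 := by
    intro z hz hzJ
    have hIJ : z ∈ I * J := h2.le ⟨hzJ, hz⟩
    have key : ∀ w ∈ I * J, ∃ hw : w ∈ J, θ ⟨w, hw⟩ = 0 := by
      intro w hw
      refine Submodule.mul_induction_on hw (fun a ha b hb => ?_) (fun a b ha hb => ?_)
      · exact ⟨J.mul_mem_left a hb, by
          rw [show (⟨a * b, J.mul_mem_left a hb⟩ : J) = a • ⟨b, hb⟩ from rfl, map_smul, hV a ha]⟩
      · obtain ⟨haJ, ha⟩ := ha
        obtain ⟨hbJ, hb⟩ := hb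
        exact ⟨add_mem haJ hbJ, by
          rw [show (⟨a + b, add_mem haJ hbJ⟩ : J) = ⟨a, haJ⟩ + ⟨b, hbJ⟩ from rfl, map_add, ha, hb, add_zero]⟩
    exact (key z hIJ).2
  have hdec : ∀ i : I, ∃ x : J, ((i : A) - (s (π i) : A) - (x : A)) ∈ I ^ 2 := by
    intro i
    have hmem : i - s (π i) ∈ N := by
      rw [← Submodule.Quotient.mk_eq_zero, Submodule.Quotient.mk_sub, sub_eq_zero]
      exact (LinearMap.congr_fun hs (π i)).symm
    obtain ⟨x, hx, y, hy, hxy⟩ := Submodule.mem_sup.1 (show ((i - s (π i) : I) : A) ∈ J ⊔ I ^ 2 from hmem)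
    refine ⟨⟨x, hx⟩, ?_⟩
    rw [show (i : A) - (s (π i) : A) - x = y from by
      rw [Submodule.coe_sub] at hxy; rw [← hxy]; ring]
    exact hy
  choose x hx using hdec
  have huniq : ∀ (i : I) (z : J), ((i : A) - (s (π i) : A) - (z : A)) ∈ I ^ 2 → θ (x i) = θ z := by
    intro i z hz
    rw [← sub_eq_zero, ← map_sub]
    refine hI2 _ ?_ _
    have := sub_mem hz (hx i)
    rwa [show (i : A) - (s (π i) : A) - (z : A) - ((i : A) - (s (π i) : A) - (x i : A)) = ((x i - z : J) : A) from by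
      rw [Submodule.coe_sub]; ring] at this
  have hxadd : ∀ i i' : I, θ (x (i + i')) = θ (x i) + θ (x i') := by
    intro i i'
    rw [← map_add]
    refine huniq _ _ ?_
    rw [map_add, map_add, Submodule.coe_add, Submodule.coe_add, Submodule.coe_add]
    convert add_mem (hx i) (hx i') using 1
    ring
  have hxsmul : ∀ (r : R) (i : I), θ (x (r • i)) = r • θ (x i) := by
    intro r i
    rw [← IsScalarTower.algebraMap_smul A r (θ (x i)), ← map_smul]
    refine huniq _ _ ?_
    rw [map_smul, map_smul, Submodule.coe_smul_of_tower, Submodule.coe_smul_of_tower, Submodule.coe_smul]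
    convert (I ^ 2).mul_mem_left (algebraMap R A r) (hx i) using 1
    rw [Algebra.smul_def, Algebra.smul_def, smul_eq_mul]
    ring
  let ρ : I →ₗ[R] V := { toFun := fun i => θ (x i), map_add' := hxadd, map_smul' := hxsmul }
  have hρJ : ∀ (z : A) (hz : z ∈ J), ρ ⟨z, hJI hz⟩ = θ ⟨z, hz⟩ := by
    intro z hz
    refine huniq _ _ ?_
    have h0 : π ⟨z, hJI hz⟩ = 0 := (Submodule.Quotient.mk_eq_zero _).2 (Submodule.mem_sup_left hz)
    rw [h0, map_zero]
    simp
  have hρ2 : ∀ i : I, (i : A) ∈ I ^ 2 → ρ i = 0 := by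
    intro i hi
    have h0 : π i = 0 := (Submodule.Quotient.mk_eq_zero _).2 (Submodule.mem_sup_right hi)
    rw [show ρ i = θ (x i) from rfl, huniq i 0 (by rw [h0, map_zero]; simpa using hi), map_zero]
  let cut : A →ₗ[R] I :=
    { toFun := fun a => ⟨a - algebraMap R A (ε a), by simp [I, RingHom.mem_ker]⟩
      map_add' := fun a b => Subtype.ext (by simp; ring)
      map_smul' := fun r a => Subtype.ext (by
        simp [Algebra.smul_def]
        ring) }
  have hact : ∀ (a : A) (v : V), a • v = ε a • v := fun a v => by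
    rw [← IsScalarTower.algebraMap_smul A (ε a) v, ← sub_eq_zero, ← sub_smul, hV _ (by simp [I, RingHom.mem_ker])]
  refine ⟨Derivation.mk' (ρ ∘ₗ cut) fun a b => ?_, fun z hz => ?_⟩
  · show ρ (cut (a * b)) = a • ρ (cut b) + b • ρ (cut a)
    have hab : (cut a : A) * (cut b : A) ∈ I ^ 2 := by
      rw [pow_two]; exact Ideal.mul_mem_mul (cut a).2 (cut b).2
    have e : cut (a * b) = ε a • cut b + ε b • cut a + ⟨_, Ideal.pow_le_self two_ne_zero hab⟩ := by
      apply Subtype.ext
      simp [cut, Algebra.smul_def]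
      ring
    rw [e, map_add, map_add, map_smul, map_smul, hact a, hact b, hρ2 ⟨_, _⟩ hab, add_zero]
  · show ρ (cut z) = θ ⟨z, hz⟩
    rw [← hρJ z hz]
    congr 1
    apply Subtype.ext
    simp [cut, RingHom.mem_ker.1 (hJI hz)]

theorem isSmoothAt_of_split [Algebra.FormallySmooth R A] (ε : A →ₐ[R] R) (J : Ideal A) (hJI : J ≤ RingHom.ker ε)
    (h1 : J.FG) (h2 : J ⊓ RingHom.ker ε ^ 2 = RingHom.ker ε * J)
    (h3 : Module.Projective R
      (↥(RingHom.ker ε) ⧸ Submodule.comap (RingHom.ker ε).subtype (J ⊔ RingHom.ker ε ^ 2)))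
    (P : Ideal (A ⧸ J)) [P.IsPrime] (hP : (RingHom.ker ε).map (Ideal.Quotient.mk J) ≤ P) :
    Algebra.IsSmoothAt R P := by
  set K := RingHom.ker (algebraMap A (A ⧸ J))
  have hK : K = J := Ideal.mk_ker
  set κ := P.ResidueField
  let V := κ ⊗[A] K.Cotangent
  have hV : ∀ a ∈ RingHom.ker ε, ∀ v : V, a • v = 0 := by
    intro a ha v
    have h0 : algebraMap A κ a = 0 := by
      rw [IsScalarTower.algebraMap_apply A (A ⧸ J) κ]
      exact Ideal.algebraMap_residueField_eq_zero.2 (hP (Ideal.mem_map_of_mem _ ha))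
    change a • v = 0
    refine TensorProduct.induction_on v (smul_zero _) (fun c m => ?_) (fun v w hv hw => ?_)
    · rw [TensorProduct.smul_tmul', Algebra.smul_def, h0, zero_mul, TensorProduct.zero_tmul]
    · rw [smul_add, hv, hw, add_zero]
  let θ : J →ₗ[A] V := (TensorProduct.mk A κ K.Cotangent 1) ∘ₗ K.toCotangent ∘ₗ Submodule.inclusion hK.ge
  obtain ⟨D, hD⟩ := exists_derivation R A ε J hJI h2 h3 V hV θ
  let r : (A ⧸ J) ⊗[A] Ω[A⁄R] →ₗ[A] V := (D.liftKaehlerDifferential.liftBaseChange (A ⧸ J)).restrictScalars A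
  have hr : ∀ m, r (kerCotangentToTensor R A (A ⧸ J) m) = (1 : κ) ⊗ₜ m := by
    intro m
    obtain ⟨⟨x, hx⟩, rfl⟩ := K.toCotangent_surjective m
    rw [kerCotangentToTensor_toCotangent]
    simp only [r, LinearMap.restrictScalars_apply, LinearMap.liftBaseChange_tmul, one_smul,
      Derivation.liftKaehlerDifferential_comp_D]
    exact hD x (hK.le hx)
  have hinj : Function.Injective ((kerCotangentToTensor R A (A ⧸ J)).lTensor κ) := by
    let G := r.liftBaseChange κ
    refine Function.Injective.of_comp (f := G) (Function.LeftInverse.injective (g := id) fun z => ?_)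
    show G ((kerCotangentToTensor R A (A ⧸ J)).lTensor κ z) = z
    refine TensorProduct.induction_on z (by simp) (fun c m => ?_) (fun x y hx hy => by rw [map_add, map_add, hx, hy])
    rw [LinearMap.lTensor_tmul]
    show r.liftBaseChange κ _ = _
    rw [LinearMap.liftBaseChange_tmul, hr, TensorProduct.smul_tmul', smul_eq_mul, mul_one]
  have : Module.Finite A K.Cotangent := by
    have : Module.Finite A K := Module.Finite.iff_fg.2 (hK ▸ h1)
    exact Module.Finite.of_surjective _ K.toCotangent_surjective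
  obtain ⟨g, hg, w, hw⟩ := FSAdic12.exists_smul_id_of_injective_residueField (A := R)
    (Ideal.Quotient.mk_surjective) P hinj
  exact FSAdic12.formallySmooth_of_smul_id Ideal.Quotient.mk_surjective g w hw P.primeCompl hg _

end Groth.Agent.GrpSch58
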