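import Groth.Agent.Var76.ActTrans
import Groth.Agent.VarGal.QFPoint
import Groth.Prelude.Def_CurvBase
import Mathlib.RingTheory.Ideal.Cotangent

/-!
Group schemes of finite type with vanishing tangent space at the unit.
-/

set_option autoImplicit false
universe u
open CategoryTheory MonoidalCategory CartesianMonoidalCategory MonObj AlgebraicGeometry IsLocalRing

namespace Groth.Agent.GrpSch58

variable {k : Type u} [Field k]

theorem eq_of_specializes_of_isField {X : Scheme.{u}} {v w : X} (h : IsField (X.presheaf.stalk w)) (hv : v ⤳ w) :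
    v = w := by
  obtain ⟨(z : PrimeSpectrum (X.presheaf.stalk w)), rfl⟩ : v ∈ Set.range (X.fromSpecStalk w) := by
    rw [Scheme.range_fromSpecStalk]; exact hv
  letI := h.toField
  rw [Subsingleton.elim (α := PrimeSpectrum (X.presheaf.stalk w)) z (closedPoint _)]
  exact Scheme.fromSpecStalk_closedPoint

theorem SpecMap_resMap {X : Scheme.{u}} [X.Over (Spec (CommRingCat.of k))] (x : X) :
    Spec.map (CommRingCat.ofHom (Curv2.resMap k X x)) =
      X.fromSpecResidueField x ≫ (X ↘ Spec (CommRingCat.of k)) := by
  have : CommRingCat.ofHom (Curv2.resMap k X x) = (Scheme.ΓSpecIso (CommRingCat.of k)).inv ≫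
      (X ↘ Spec (CommRingCat.of k)).appTop ≫ X.presheaf.germ ⊤ x trivial ≫ X.residue x := rfl
  rw [this, Scheme.fromSpecResidueField, Category.assoc]
  simp only [Spec.map_comp, Category.assoc]
  congr 1
  rw [← Scheme.fromSpecStalk_toSpecΓ_assoc, ← Scheme.toSpecΓ_naturality_assoc]
  congr 1
  rw [← SpecMap_ΓSpecIso_hom, ← Spec.map_comp, Iso.inv_hom_id, Spec.map_id, Category.comp_id]

theorem stalkMap_bijective [IsAlgClosed k] (X : Scheme.{u}) [X.Over (Spec (CommRingCat.of k))]
    [LocallyOfFiniteType (X ↘ Spec (CommRingCat.of k))] (x : X) (hx : IsClosed {x})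
    (h : IsField (X.presheaf.stalk x)) : Function.Bijective (Curv2.stalkMap k X x) := by
  have e : CommRingCat.ofHom (Curv2.resMap k X x) = (residueFieldIsoBase (X ↘ Spec (CommRingCat.of k)) x hx).inv := by
    apply Spec.map_injective
    rw [SpecMap_resMap, SpecMap_residueFieldIsoBase_inv]
  have hres : Function.Bijective (Curv2.resMap k X x) := by
    rw [show Curv2.resMap k X x = (residueFieldIsoBase (X ↘ Spec (CommRingCat.of k)) x hx).inv.hom from
      congrArg CommRingCat.Hom.hom e]
    exact ConcreteCategory.bijective_of_isIso _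
  refine ⟨(Curv2.stalkMap k X x).injective, fun a => ?_⟩
  obtain ⟨c, hc⟩ := hres.2 (X.residue x a)
  refine ⟨c, sub_eq_zero.1 ?_⟩
  have : Curv2.stalkMap k X x c - a ∈ maximalIdeal (X.presheaf.stalk x) := by
    rw [← residue_eq_zero_iff, map_sub, sub_eq_zero]
    exact hc
  rwa [isField_iff_maximalIdeal_eq.1 h, Ideal.mem_bot] at this

theorem subsingleton_cotangentSpace_iff [IsAlgClosed k] (G : Over (Spec (CommRingCat.of k))) [GrpObj G]
    [LocallyOfFiniteType G.hom] [QuasiCompact G.hom] (e : G.left) (he : e ∈ Set.range (η[G]).left.base) :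
    letI : G.left.Over (Spec (CommRingCat.of k)) := ⟨G.hom⟩
    Subsingleton (CotangentSpace (G.left.presheaf.stalk e)) ↔
      (Finite G.left ∧ DiscreteTopology G.left ∧
        ∀ g : G.left, Function.Bijective (Curv2.stalkMap k G.left g)) := by
  letI : G.left.Over (Spec (CommRingCat.of k)) := ⟨G.hom⟩
  haveI : LocallyOfFiniteType (G.left ↘ Spec (CommRingCat.of k)) := ‹LocallyOfFiniteType G.hom›
  haveI := LocallyOfFiniteType.isLocallyNoetherian G.hom
  haveI := LocallyOfFiniteType.jacobsonSpace G.hom
  constructor
  · intro h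
    have hfe : IsField (G.left.presheaf.stalk e) := IsLocalRing.subsingleton_cotangentSpace_iff.1 h
    have hce : IsClosed ({e} : Set G.left) := by
      obtain ⟨z, rfl⟩ := he
      haveI : IsClosedImmersion η[G].left :=
        isClosedImmersion_of_comp_eq_id (Y := Spec (CommRingCat.of k)) G.hom η[G].left (Over.w η[G])
      haveI : Subsingleton (Spec (CommRingCat.of k)) := inferInstanceAs (Subsingleton (PrimeSpectrum k))
      exact Set.image_singleton (f := fun q => η[G].left q) ▸
        η[G].left.isClosedMap _ (isClosed_discrete ({z} : Set (Spec (CommRingCat.of k))))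
    have hfield : ∀ g : G.left, IsClosed ({g} : Set G.left) → IsField (G.left.presheaf.stalk g) := by
      intro g hg
      obtain ⟨σ, hσ⟩ := Var76.ActTrans.exists_lTrans_eq e g hce hg
      let φ := (Var76.ActTrans.lTrans σ).hom.left
      haveI : IsIso φ := ((Over.forget _).mapIso (Var76.ActTrans.lTrans σ)).isIso_hom
      rw [← hσ]
      exact (asIso (φ.stalkMap e)).commRingCatIsoToRingEquiv.toMulEquiv.isField hfe
    have hall : ∀ x : G.left, IsClosed ({x} : Set G.left) := by
      intro x
      obtain ⟨z, hz, hzc⟩ := nonempty_inter_closedPoints (Z := closure {x}) ⟨x, subset_closure rfl⟩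
        isClosed_closure.isLocallyClosed
      rwa [eq_of_specializes_of_isField (hfield z hzc) (specializes_iff_mem_closure.2 hz)]
    haveI : DiscreteTopology G.left := discreteTopology_iff_isOpen_singleton.2 fun x =>
      VarGal.isOpen_singleton_of_closed_maximal (fun v hv => eq_of_specializes_of_isField (hfield x (hall x)) hv)
        (fun v hv => by
          have := hv.mem_closure
          rwa [(hall x).closure_eq] at this)
    haveI : CompactSpace G.left := QuasiCompact.compactSpace_of_compactSpace G.hom
    exact ⟨finite_of_compact_of_discrete, inferInstance, fun g =>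
      stalkMap_bijective G.left g (hall g) (hfield g (hall g))⟩
  · intro ⟨_, _, h⟩
    exact IsLocalRing.subsingleton_cotangentSpace_iff.2
      ((RingEquiv.ofBijective _ (h e)).symm.toMulEquiv.isField (Field.toIsField k))

end Groth.Agent.GrpSch58
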