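import Groth.Agent.AlgGrp79.Image
import Groth.Agent.SGA3a.NeutralQC
import Groth.Agent.SGA3a.GrpSep
import Groth.Prelude.Def_AutSch

/-!
Every component of finite order contains a torsion point.
-/

set_option autoImplicit false

universe u

open CategoryTheory CategoryTheory.Limits MonoidalCategory CartesianMonoidalCategory MonObj GrpObj AlgebraicGeometry
open TopologicalSpace

noncomputable section

namespace Groth.Agent.GrpSch58

variable {k : Type u} [Field k]

local notation "S₀" => Spec (CommRingCat.of k)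

theorem isClosed_range_hom {H G : Over S₀} [GrpObj H] [GrpObj G] [LocallyOfFiniteType H.hom]
    [LocallyOfFiniteType G.hom] [QuasiCompact H.hom] (f : H ⟶ G) [IsMonHom f] :
    IsClosed (Set.range f.left) := by
  have : Subsingleton S₀ := inferInstanceAs (Subsingleton (PrimeSpectrum k))
  have : IsSeparated G.hom := SGA3a.isSeparated_of_subsingleton G
  have : QuasiCompact f.left := by
    have : QuasiCompact (f.left ≫ G.hom) := by rw [Over.w f]; infer_instance
    exact QuasiCompact.of_comp f.left G.hom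
  let K' : Over S₀ := Over.mk (f.left.imageι ≫ G.hom)
  let i : K' ⟶ G := Over.homMk f.left.imageι rfl
  let g : H ⟶ K' := Over.homMk f.left.toImage (by
    show f.left.toImage ≫ f.left.imageι ≫ G.hom = _
    rw [Scheme.Hom.toImage_imageι_assoc]; exact Over.w f)
  have hgi : g ≫ i = f := Over.OverMorphism.ext (f.left.toImage_imageι)
  have : IsClosedImmersion i.left := inferInstanceAs (IsClosedImmersion f.left.imageι)
  have : Mono i := (Over.forget _).mono_of_mono_map (inferInstanceAs (Mono f.left.imageι))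
  have : IsSchemeTheoreticallyDominant g.left := AlgGrp79.schDominant_toImage f.left
  have : QuasiCompact g.left := inferInstanceAs (QuasiCompact f.left.toImage)
  obtain ⟨h1, h2⟩ := AlgGrp79.closed_of_dominant f i g hgi
  obtain ⟨_, _⟩ := AlgGrp79.exists_grpObj_closed i h1 h2
  have : IsMonHom g :=
    { one_hom := by rw [← cancel_mono i, Category.assoc, hgi, IsMonHom.one_hom, IsMonHom.one_hom]
      mul_hom := by
        rw [← cancel_mono i, Category.assoc, hgi, IsMonHom.mul_hom, Category.assoc, IsMonHom.mul_hom,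
          ← Category.assoc, MonoidalCategory.tensorHom_comp_tensorHom, hgi] }
  have : LocallyOfFiniteType K'.hom := inferInstanceAs (LocallyOfFiniteType (f.left.imageι ≫ G.hom))
  have : IsDominant g.left := inferInstanceAs (IsDominant f.left.toImage)
  have hs := AlgGrp79.surjective_of_dominant_hom g
  have hr : Set.range f.left = Set.range i.left := by
    rw [← hgi, Over.comp_left, Scheme.Hom.comp_base, TopCat.coe_comp]
    exact hs.surj.range_comp _
  rw [hr]
  exact i.left.isClosedEmbedding.isClosed_range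

variable [IsAlgClosed k]

/-- The point of a rational point. -/
def pt {X : Over S₀} (x : 𝟙_ (Over S₀) ⟶ X) : X.left := x.left (IsLocalRing.closedPoint k)

theorem exists_of_isClosed {X : Over S₀} [LocallyOfFiniteType X.hom] {z : X.left}
    (hz : IsClosed ({z} : Set X.left)) : ∃ x : 𝟙_ (Over S₀) ⟶ X, pt x = z :=
  ⟨Over.homMk (pointOfClosedPoint X.hom z hz) (pointOfClosedPoint_comp X.hom z hz),
    pointOfClosedPoint_apply X.hom z hz _⟩

theorem eq_of_pt_eq {X : Over S₀} [LocallyOfFiniteType X.hom] {x y : 𝟙_ (Over S₀) ⟶ X} (h : pt x = pt y) :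
    x = y := by
  have := (pointEquivClosedPoint X.hom).injective (a₁ := ⟨x.left, Over.w x⟩) (a₂ := ⟨y.left, Over.w y⟩)
    (Subtype.ext h)
  exact Over.OverMorphism.ext (congrArg Subtype.val this)

theorem exists_isOfFinOrder_of_pow_mem {G G0 : Over S₀} [GrpObj G] [IsCommMonObj G] [GrpObj G0]
    [LocallyOfFiniteType G.hom] (i : G0 ⟶ G) [IsMonHom i] (hi : AutSch.IsIdComp i)
    (g : 𝟙_ (Over S₀) ⟶ G) (n : ℕ) (hn : 0 < n) (hg : g ^ n ∈ AutSch.ptsRange i) :
    ∃ t : 𝟙_ (Over S₀) ⟶ G, IsOfFinOrder t ∧ t⁻¹ * g ∈ AutSch.ptsRange i := by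
  obtain ⟨-, hopen, hrange⟩ := hi
  have : LocallyOfFiniteType G0.hom := by rw [← Over.w i]; infer_instance
  have : Mono i := (Over.forget _).mono_of_mono_map (inferInstanceAs (Mono i.left))
  have hsub : Subsingleton S₀ := inferInstanceAs (Subsingleton (PrimeSpectrum k))
  have hconn : ∀ s : S₀, _root_.IsConnected (G0.hom ⁻¹' {s}) := by
    intro s
    have huniv : G0.hom ⁻¹' {s} = Set.univ := Set.eq_univ_of_forall fun _ => Subsingleton.elim _ _
    rw [huniv]
    refine ⟨⟨η[G0].left s, trivial⟩, i.left.isOpenEmbedding.isInducing.isPreconnected_image.1 ?_⟩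
    rw [Set.image_univ]
    change _root_.IsPreconnected (Set.range i.left.base)
    rw [hrange]
    refine isPreconnected_iUnion ⟨η[G].left s, Set.mem_iInter.2 fun p => ?_⟩ fun p => isPreconnected_connectedComponentIn
    obtain rfl : p = s := Subsingleton.elim (α := PrimeSpectrum k) _ _
    exact mem_connectedComponentIn (Subsingleton.elim (α := PrimeSpectrum k) _ _)
  have : QuasiCompact G0.hom := SGA3a.quasiCompact_of_connected_fibres G0
    (fun s => MorphismProperty.pullback_snd _ _ ‹_›) hconn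
  have : CompactSpace G0.left := QuasiCompact.compactSpace_of_compactSpace G0.hom
  have : IsLocallyNoetherian G0.left := LocallyOfFiniteType.isLocallyNoetherian G0.hom
  have : IsNoetherian G0.left := ⟨⟩
  have : JacobsonSpace G0.left := LocallyOfFiniteType.jacobsonSpace G0.hom
  let q : ℕ → (G0 ⟶ G0) := fun m => (𝟙 G0) ^ (n ^ m)
  have hq : ∀ m, q m ≫ i = i ≫ (𝟙 G) ^ (n ^ m) := fun m => by
    rw [MonObj.pow_comp, MonObj.comp_pow, Category.id_comp, Category.comp_id]
  have hpow : ∀ N : ℕ, IsMonHom ((𝟙 G) ^ N) := fun N =>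
    { one_hom := by rw [MonObj.comp_pow, Category.comp_id, one_eq_one, one_pow]
      mul_hom := by
        rw [MonObj.comp_pow, Category.comp_id, mul_eq_mul, mul_pow, MonObj.comp_mul, tensorHom_fst, tensorHom_snd,
          MonObj.comp_pow, MonObj.comp_pow, Category.comp_id, Category.comp_id] }
  have hqmul : ∀ m, IsMonHom (q m ≫ i) := fun m => by
    have := hpow (n ^ m)
    rw [hq]; infer_instance
  have hcl : ∀ m, IsClosed (Set.range (q m).left) := fun m => by
    have := hqmul m
    have h := (isClosed_range_hom (q m ≫ i)).preimage i.left.continuous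
    rwa [Over.comp_left, Scheme.Hom.comp_base, TopCat.coe_comp, Set.range_comp,
      Set.preimage_image_eq _ i.left.isOpenEmbedding.injective] at h
  obtain ⟨T, ⟨m, rfl⟩, hmin⟩ := (wellFounded_lt (α := Closeds G0.left)).has_min
    (Set.range fun m => (⟨Set.range (q m).left, hcl m⟩ : Closeds G0.left)) (Set.range_nonempty _)
  have hstep : q (m + 1) = ((𝟙 G0) ^ n) ≫ q m := by
    show (𝟙 G0) ^ (n ^ (m + 1)) = _ ≫ (𝟙 G0) ^ (n ^ m)
    rw [MonObj.comp_pow, Category.comp_id, ← pow_mul, pow_succ, mul_comm]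
  have hle : Set.range (q m).left ⊆ Set.range (q (m + 1)).left := by
    by_contra hc
    refine hmin _ ⟨m + 1, rfl⟩ (lt_of_le_not_ge ?_ hc)
    show Set.range (q (m + 1)).left ⊆ Set.range (q m).left
    rw [hstep, Over.comp_left, Scheme.Hom.comp_base, TopCat.coe_comp]
    exact Set.range_comp_subset_range _ _
  obtain ⟨h0, hh0⟩ := hg
  change h0 ≫ i = g ^ n at hh0
  obtain ⟨z, hz⟩ := hle (show pt (h0 ≫ q m) ∈ Set.range (q m).left from ⟨pt h0, rfl⟩)
  have hclosed : IsClosed ((q (m + 1)).left ⁻¹' {pt (h0 ≫ q m)}) :=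
    (((pointEquivClosedPoint G0.hom) ⟨(h0 ≫ q m).left, Over.w _⟩).2).preimage (q (m + 1)).left.continuous
  obtain ⟨w, hw, hwc⟩ := nonempty_inter_closedPoints (X := G0.left) ⟨z, hz⟩ hclosed.isLocallyClosed
  obtain ⟨y, rfl⟩ := exists_of_isClosed (X := G0) hwc
  have hy : y ≫ q (m + 1) = h0 ≫ q m := eq_of_pt_eq hw
  have key : (y ≫ i) ^ (n ^ (m + 1)) = g ^ (n ^ (m + 1)) := by
    have := congrArg (· ≫ i) hy
    simp only [q, MonObj.comp_pow, Category.comp_id, MonObj.pow_comp] at this
    rw [this, hh0, ← pow_mul, pow_succ, mul_comm]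
  refine ⟨g * (y ≫ i)⁻¹, isOfFinOrder_iff_pow_eq_one.2 ⟨n ^ (m + 1), pow_pos hn _, ?_⟩, y, ?_⟩
  · rw [mul_pow, inv_pow, key, mul_inv_cancel]
  · show y ≫ i = _
    rw [_root_.mul_inv_rev, _root_.inv_inv, inv_mul_cancel_right]

end Groth.Agent.GrpSch58
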